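import Cfsg.Agent.Omega.All.SpN.Defs

section


/-!
# THEOREM F1-h1, `Sp_2n(q)`: semi-isometries preserving `E = ⟨e_1, e_2⟩` (and `⟨e_1⟩`) (helper678)

`FixE p q s`, `FixL p s`; such `s` normalise `Q_s`, `U_s` (and `U_l`, `Q_s U_l`). Triangular semi-isometries and
elements commuting with `x_12(a)`, `y_1(b)` are such.
-/

set_option autoImplicit false

namespace Cfsg.Agent.Omega.All.SpN

open Cfsg Cfsg.Agent.ClassicalGeometry.SympBasic Cfsg.Agent.ClassicalGeometry.SympAutSemi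
open Cfsg.Agent.OddHalf.SpN Cfsg.Agent.OddHalf.SpN.Out
open scoped Matrix commutatorElement

variable {n : ℕ} {F : Type*} [Field F] {p q : Ix n}

/-- `s` preserves `E` -/
structure FixE (p q : Ix n) (s : Equiv.Perm (Ix n → F)) : Prop where
  fwd : ∀ v, InE p q v → InE p q (s v)
  bwd : ∀ v, InE p q v → InE p q (s⁻¹ v)

/-- `s` preserves `⟨e_p⟩` -/
structure FixL (p : Ix n) (s : Equiv.Perm (Ix n → F)) : Prop where
  fwd : InL p (s (be n F p))
  bwd : InL p (s⁻¹ (be n F p))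

section basic

variable {s : Equiv.Perm (Ix n → F)} {φ : F ≃+* F}

theorem FixE.inv (h : FixE p q s) : FixE p q s⁻¹ := ⟨h.bwd, by rw [inv_inv]; exact h.fwd⟩

theorem FixL.inv (h : FixL p s) : FixL p s⁻¹ := ⟨h.bwd, by rw [inv_inv]; exact h.fwd⟩

theorem FixL.fwd' (hs : SI s φ) (h : FixL p s) {v : Ix n → F} (hv : InL p v) : InL p (s v) := by
  obtain ⟨a, rfl⟩ := hv
  rw [hs.smul]
  exact h.fwd.smul _

theorem fixE_of (hs : SI s φ) (h1 : InE p q (s (be n F p))) (h2 : InE p q (s (be n F q)))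
    (h3 : InE p q (s⁻¹ (be n F p))) (h4 : InE p q (s⁻¹ (be n F q))) : FixE p q s := by
  constructor
  · rintro _ ⟨a, b, rfl⟩
    rw [hs.add, hs.smul, hs.smul]
    exact (h1.smul _).add (h2.smul _)
  · rintro _ ⟨a, b, rfl⟩
    rw [hs.inv'.add, hs.inv'.smul, hs.inv'.smul]
    exact (h3.smul _).add (h4.smul _)

variable [CharP F 2]

theorem FixE.prp (hs : SI s φ) (h : FixE p q s) {v : Ix n → F} (hv : Prp p q v) : Prp p q (s v) := by
  have key : ∀ w : Ix n → F, InE p q w → sympForm n F (s v) w = 0 := by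
    intro w hw
    obtain ⟨a, b, e⟩ := h.bwd w hw
    have h1 := hs.form v (s⁻¹ w)
    rw [perm_apply_inv_self, e, sympForm_add_right, sympForm_smul_right, sympForm_smul_right, form_be, form_be, hv.1,
      hv.2, mul_zero, mul_zero, add_zero, map_zero] at h1
    exact h1
  exact ⟨by have := key _ InE.left; rwa [form_be] at this, by have := key _ InE.right; rwa [form_be] at this⟩

theorem FixL.perp (hs : SI s φ) (h : FixL p s) {v : Ix n → F} (hv : v (neg p) = 0) : s v (neg p) = 0 := by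
  obtain ⟨a, e⟩ := h.bwd
  have h1 := hs.form v (s⁻¹ (be n F p))
  rw [perm_apply_inv_self, e, sympForm_smul_right, form_be, form_be, hv, mul_zero, map_zero] at h1
  exact h1

variable [Finite F] {A B : Sy n F}

omit [CharP F 2] [Finite F] in
theorem conj_apply (e : rho n F B = s * rho n F A * s⁻¹) (v : Ix n → F) :
    rho n F B v = s (rho n F A (s⁻¹ v)) := by
  rw [e, Equiv.Perm.mul_apply, Equiv.Perm.mul_apply]

omit [CharP F 2] [Finite F] in
theorem conj_sub (hs : SI s φ) (e : rho n F B = s * rho n F A * s⁻¹) (v : Ix n → F) :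
    rho n F B v - v = s (rho n F A (s⁻¹ v) - s⁻¹ v) := by
  rw [conj_apply e, SI.sub hs, perm_apply_inv_self]

theorem conj_QS (hs : SI s φ) (h : FixE p q s) (hA : A ∈ QS p q) (e : rho n F B = s * rho n F A * s⁻¹) :
    B ∈ QS p q := by
  have hfix : ∀ v, InE p q v → rho n F A v = v := by
    rintro _ ⟨a, b, rfl⟩
    rw [radd, rsmul, rsmul, hA.1, hA.2.1]
  refine ⟨?_, ?_, fun v hv => ?_⟩
  · rw [conj_apply e, hfix _ (h.bwd _ InE.left), perm_apply_inv_self]
  · rw [conj_apply e, hfix _ (h.bwd _ InE.right), perm_apply_inv_self]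
  · rw [conj_sub hs e]
    exact h.fwd _ (hA.2.2 _ (h.inv.prp hs.inv' hv))

theorem conj_US (hs : SI s φ) (h : FixE p q s) (hA : A ∈ US p q) (e : rho n F B = s * rho n F A * s⁻¹) :
    B ∈ US p q := by
  intro v hv
  rw [conj_apply e, hA _ (h.inv.prp hs.inv' hv), perm_apply_inv_self]

theorem conj_UL (hs : SI s φ) (h : FixL p s) (hA : A ∈ UL p) (e : rho n F B = s * rho n F A * s⁻¹) :
    B ∈ UL p := by
  refine ⟨?_, fun v hv => ?_⟩
  · obtain ⟨a, ea⟩ := h.bwd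
    rw [conj_apply e, ea, rsmul, hA.1, ← ea, perm_apply_inv_self]
  · rw [conj_sub hs e]
    exact h.fwd' hs (hA.2 _ (h.inv.perp hs.inv' hv))

theorem conj_QSL (hs : SI s φ) (h : FixE p q s) (h' : FixL p s) (hA : A ∈ QSL p q)
    (e : rho n F B = s * rho n F A * s⁻¹) : B ∈ QSL p q := by
  have hfix : ∀ v, InE p q v → InL p (rho n F A v - v) := by
    rintro _ ⟨a, b, rfl⟩
    have e : rho n F A (a • be n F p + b • be n F q) - (a • be n F p + b • be n F q) =
        b • (rho n F A (be n F q) - be n F q) := by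
      rw [radd, rsmul, rsmul, hA.1, smul_sub]; abel
    rw [e]
    exact hA.2.1.smul _
  refine ⟨?_, ?_, fun v hv => ?_⟩
  · obtain ⟨a, ea⟩ := h'.bwd
    rw [conj_apply e, ea, rsmul, hA.1, ← ea, perm_apply_inv_self]
  · rw [conj_sub hs e]
    exact h'.fwd' hs (hfix _ (h.bwd _ InE.right))
  · rw [conj_sub hs e]
    exact h.fwd _ (hA.2.2 _ (h.inv.prp hs.inv' hv))

end basic

/-! ### triangular semi-isometries -/

/-- `1` -/
def i0 (hn : 3 ≤ n) : Ix n := Sum.inl (c0 hn)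

/-- `2` -/
def i1 (hn : 3 ≤ n) : Ix n := Sum.inl (c1 hn)

/-- `3` -/
def i2 (hn : 3 ≤ n) : Ix n := Sum.inl (c2 hn)

section idx

variable (hn : 3 ≤ n)

theorem d01 : Dj (i0 hn) (i1 hn) := dj_ll (c01 hn)

theorem d02 : Dj (i0 hn) (i2 hn) := dj_ll (by simp [c0, c2])

theorem d12 : Dj (i1 hn) (i2 hn) := dj_ll (by simp [c1, c2])

end idx

section tri

variable {s : Equiv.Perm (Ix n → F)} {φ : F ≃+* F} {d : Fin n → F} (hn : 3 ≤ n)

theorem Tri.e0 (h : Tri s d) : s (be n F (i0 hn)) = d (c0 hn) • be n F (i0 hn) := by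
  ext m
  rw [Pi.smul_apply, smul_eq_mul, be_apply]
  rcases m with m | m
  · by_cases hm : m = c0 hn
    · subst hm; rw [i0, h.dg, if_pos rfl, mul_one]
    · have hlt : c0 hn < m := by
        have a0 : m.1 ≠ 0 := fun e => hm (Fin.ext e)
        show 0 < m.1
        omega
      rw [i0, h.up _ _ hlt, if_neg (fun e => hm (Sum.inl_injective e)), mul_zero]
  · rw [i0, h.lo, if_neg (by simp), mul_zero]

theorem Tri.e1 (h : Tri s d) : ∃ μ : F, s (be n F (i1 hn)) =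
    d (c1 hn) • be n F (i1 hn) + μ • be n F (i0 hn) := by
  refine ⟨s (be n F (i1 hn)) (i0 hn), ?_⟩
  ext m
  rw [Pi.add_apply, Pi.smul_apply, Pi.smul_apply, smul_eq_mul, smul_eq_mul, be_apply, be_apply]
  rcases m with m | m
  · by_cases hm : m = c0 hn
    · subst hm
      rw [i0, i1, if_neg (fun e => c01 hn (Sum.inl_injective e)), if_pos rfl, mul_one, mul_zero, zero_add]
    by_cases hm1 : m = c1 hn
    · subst hm1
      rw [i0, i1, h.dg, if_pos rfl, if_neg (fun e => hm (Sum.inl_injective e)), mul_one, mul_zero, add_zero]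
    · have hlt : c1 hn < m := by
        have a0 : m.1 ≠ 0 := fun e => hm (Fin.ext e)
        have a1 : m.1 ≠ 1 := fun e => hm1 (Fin.ext e)
        show 1 < m.1
        omega
      rw [i0, i1, h.up _ _ hlt, if_neg (fun e => hm1 (Sum.inl_injective e)), if_neg (fun e => hm (Sum.inl_injective e)),
        mul_zero, mul_zero, add_zero]
  · rw [i0, i1, h.lo, if_neg (by simp), if_neg (by simp), mul_zero, mul_zero, add_zero]

/-- modulo `E` -/
theorem Tri.e2 (h : Tri s d) : InE (i0 hn) (i1 hn) (s (be n F (i2 hn)) - d (c2 hn) • be n F (i2 hn)) := by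
  refine ⟨s (be n F (i2 hn)) (i0 hn), s (be n F (i2 hn)) (i1 hn), ?_⟩
  have h02 : c0 hn ≠ c2 hn := by simp [c0, c2]
  have h12 : c1 hn ≠ c2 hn := by simp [c1, c2]
  ext m
  rw [Pi.sub_apply, Pi.add_apply, Pi.smul_apply, Pi.smul_apply, Pi.smul_apply, smul_eq_mul, smul_eq_mul, smul_eq_mul,
    be_apply, be_apply, be_apply]
  rcases m with m | m
  · by_cases hm : m = c0 hn
    · subst hm
      simp [i0, i1, i2, c01 hn, h02]
    by_cases hm1 : m = c1 hn
    · subst hm1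
      simp [i0, i1, i2, (c01 hn).symm, h12]
    by_cases hm2 : m = c2 hn
    · subst hm2
      simp [i0, i1, i2, h02.symm, h12.symm, h.dg]
    · have hlt : c2 hn < m := by
        have a0 : m.1 ≠ 0 := fun e => hm (Fin.ext e)
        have a1 : m.1 ≠ 1 := fun e => hm1 (Fin.ext e)
        have a2 : m.1 ≠ 2 := fun e => hm2 (Fin.ext e)
        show 2 < m.1
        omega
      simp [i0, i1, i2, hm, hm1, hm2, h.up _ _ hlt]
  · simp [i0, i1, i2, h.lo]

theorem Tri.fixL [Finite F] (hs : SI s φ) (h : Tri s d) : FixL (i0 hn) s :=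
  ⟨⟨_, Tri.e0 hn h⟩, ⟨_, Tri.e0 hn (Tri.inv hs h).1⟩⟩

theorem Tri.fixE [Finite F] (hs : SI s φ) (h : Tri s d) : FixE (i0 hn) (i1 hn) s := by
  refine fixE_of hs (Tri.fixL hn hs h).fwd.inE ?_ (Tri.fixL hn hs h).bwd.inE ?_
  · obtain ⟨μ, e⟩ := Tri.e1 hn h
    exact ⟨μ, d (c1 hn), by rw [e, add_comm]⟩
  · obtain ⟨μ, e⟩ := Tri.e1 hn (Tri.inv hs h).1
    exact ⟨μ, _, by rw [e, add_comm]⟩

end tri

/-! ### semi-isometries commuting with `x_12(a)`, `y_1(b)` -/

section comm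

variable [CharP F 2] {s : Equiv.Perm (Ix n → F)} {φ : F ≃+* F} (hn : 3 ≤ n)

theorem zz_sub (a b : F) (v : Ix n → F) : rho n F (zz hn a b) v - v =
    (a * v (neg (i1 hn)) + b * v (neg (i0 hn))) • be n F (i0 hn) + (a * v (neg (i0 hn))) • be n F (i1 hn) := by
  rw [rho_zz, i0, i1, neg_inl, neg_inl]; abel

theorem comm_inE (hs : SI s φ) {a : F} (ha : a ≠ 0) (h : rho n F (zz hn a 0) * s = s * rho n F (zz hn a 0))
    {v : Ix n → F} (hv : InE (i0 hn) (i1 hn) v) : InE (i0 hn) (i1 hn) (s v) := by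
  obtain ⟨x, y, rfl⟩ := hv
  set w : Ix n → F := (a⁻¹ * x) • be n F (neg (i1 hn)) + (a⁻¹ * y) • be n F (neg (i0 hn)) with hw
  have e : x • be n F (i0 hn) + y • be n F (i1 hn) = rho n F (zz hn a 0) w - w := by
    have h01 := (d01 hn).1
    rw [zz_sub, hw]
    simp [be_apply, h01, h01.symm, ha]
  rw [e, SI.sub hs]
  have h1 : s (rho n F (zz hn a 0) w) = rho n F (zz hn a 0) (s w) := by
    rw [← Equiv.Perm.mul_apply, ← h, Equiv.Perm.mul_apply]
  rw [h1, zz_sub]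
  exact ⟨_, _, rfl⟩

theorem fixE_of_comm (hs : SI s φ) {a : F} (ha : a ≠ 0)
    (h : rho n F (zz hn a 0) * s = s * rho n F (zz hn a 0)) : FixE (i0 hn) (i1 hn) s := by
  refine ⟨fun v hv => comm_inE hn hs ha h hv, fun v hv => comm_inE hn hs.inv' ha ?_ hv⟩
  rw [eq_inv_mul_iff_mul_eq, ← mul_assoc, ← h, mul_assoc, mul_inv_cancel, mul_one]

theorem comm_inL (hs : SI s φ) {b : F} (hb : b ≠ 0) (h : rho n F (zz hn 0 b) * s = s * rho n F (zz hn 0 b)) :
    InL (i0 hn) (s (be n F (i0 hn))) := by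
  have e : be n F (i0 hn) = rho n F (zz hn 0 b) (b⁻¹ • be n F (neg (i0 hn))) - b⁻¹ • be n F (neg (i0 hn)) := by
    rw [zz_sub]
    simp [be_apply, hb]
  rw [e, SI.sub hs, ← Equiv.Perm.mul_apply, ← h, Equiv.Perm.mul_apply, zz_sub]
  exact ⟨_, by rw [zero_mul, zero_add, zero_mul, zero_smul, add_zero]⟩

theorem fixL_of_comm (hs : SI s φ) {b : F} (hb : b ≠ 0)
    (h : rho n F (zz hn 0 b) * s = s * rho n F (zz hn 0 b)) : FixL (i0 hn) s := by
  refine ⟨comm_inL hn hs hb h, comm_inL hn hs.inv' hb ?_⟩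
  rw [eq_inv_mul_iff_mul_eq, ← mul_assoc, ← h, mul_assoc, mul_inv_cancel, mul_one]

end comm

end Cfsg.Agent.Omega.All.SpN

end

section


/-!
# THEOREM F1-h1, `Sp_2n(q)`: facts inside `Sp_2n(F)` (helper678)

`C0 = C(X_12)`, `E3 = C(X_12 Y_1)`, `Q_s = QS`, `U_s = US`, `U_l = UL`, `Q_s U_l = QSL`.

* `max_QS`, `max_QSL` : an element of `Up`, all whose conjugates under `C0` (`E3`) are in `Up`, is in `Q_s` (`Q_s U_l`);
* `US_eq` : `U_s = Z(Q_s)`; `comm_QS` : `[Q_s, Q_s] = X_12`; `irr_QS`; `typ_US`, `typ_UL`.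
-/

set_option autoImplicit false
set_option linter.unusedSectionVars false

namespace Cfsg.Agent.Omega.All.SpN

open Cfsg Cfsg.Agent.ClassicalGeometry.SympBasic Cfsg.Agent.ClassicalGeometry.SympAutSemi
open Cfsg.Agent.OddHalf.SpN Cfsg.Agent.OddHalf.SpN.Out
open scoped Matrix commutatorElement

variable {n : ℕ} {F : Type*} [Field F] [CharP F 2]

section defs

variable (hn : 3 ≤ n)

/-- `C(X_12)` -/
noncomputable def C0 : Subgroup (Sy n F) := Subgroup.centralizer ((X12 hn : Subgroup (Sy n F)) : Set (Sy n F))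

/-- `C(X_12 Y_1)` -/
noncomputable def E3 : Subgroup (Sy n F) := Subgroup.centralizer ((Zz hn : Subgroup (Sy n F)) : Set (Sy n F))

variable {hn} {A : Sy n F}

theorem mem_C0 : A ∈ C0 hn ↔ ∀ a, Commute A (zz hn a 0) := by
  rw [C0, Subgroup.mem_centralizer_iff]
  constructor
  · exact fun h a => (h _ ⟨a, rfl⟩).symm
  · rintro h _ ⟨a, rfl⟩
    exact (h a).symm

theorem mem_E3 : A ∈ E3 hn ↔ ∀ a b, Commute A (zz hn a b) := by
  rw [E3, Subgroup.mem_centralizer_iff]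
  constructor
  · exact fun h a b => (h _ ⟨a, b, rfl⟩).symm
  · rintro h _ ⟨a, b, rfl⟩
    exact (h a b).symm

theorem E3_le_C0 : (E3 hn : Subgroup (Sy n F)) ≤ C0 hn :=
  Subgroup.centralizer_le (X12_le hn)

theorem C0_fixE (hA : A ∈ C0 hn) : FixE (i0 hn) (i1 hn) (rho n F A) := by
  refine fixE_of_comm hn (SI.of_rho A) one_ne_zero ?_
  rw [← map_mul, ← map_mul, (mem_C0.1 hA 1).eq]

theorem Up_le_E3 [Finite F] : Up n F ≤ E3 hn := fun _ hA => mem_E3.2 fun a b => comm_Z hn hA a b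

theorem Up_le_C0 [Finite F] : Up n F ≤ C0 hn := Up_le_E3.trans E3_le_C0

theorem zz_eq (a b : F) : zz hn a b = sx (i0 hn) (i1 hn) a * sy (i0 hn) b := rfl

theorem zz_eq0 (a : F) : zz hn a 0 = sx (i0 hn) (i1 hn) a := by rw [zz_eq, sy_zero, mul_one]

theorem commute_iff_conj {H : Type*} [Group H] {a b : H} : Commute a b ↔ a * b * a⁻¹ = b := by
  rw [mul_inv_eq_iff_eq_mul]; exact Iff.rfl

/-- Weyl elements fixing `1`, `2` -/
theorem sw_mem_E3 {w : W n} (h0 : w.1 (i0 hn) = i0 hn) (h1 : w.1 (i1 hn) = i1 hn) : sw (F := F) w ∈ E3 hn := by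
  refine mem_E3.2 fun a b => commute_iff_conj.2 ?_
  have e : sw (F := F) w * (sx (i0 hn) (i1 hn) a * sy (i0 hn) b) * (sw w)⁻¹ =
      (sw w * sx (i0 hn) (i1 hn) a * (sw w)⁻¹) * (sw w * sy (i0 hn) b * (sw w)⁻¹) := by group
  rw [zz_eq, e, sw_sx, sw_sy, h0, h1]

/-- the Weyl element exchanging `1`, `2` -/
noncomputable def w01 (hn : 3 ≤ n) : W n := ⟨tr (i0 hn) (i1 hn), tr_mem (d01 hn)⟩

theorem tr_left {i j : Ix n} (h : Dj i j) : tr i j i = j := by
  rw [tr, Equiv.Perm.mul_apply, Equiv.swap_apply_of_ne_of_ne (ne_neg i) h.2, Equiv.swap_apply_left]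

theorem tr_right {i j : Ix n} (h : Dj i j) : tr i j j = i := by
  have h2 : j ≠ neg i := fun e => h.2 (by rw [e, neg_neg])
  rw [tr, Equiv.Perm.mul_apply, Equiv.swap_apply_of_ne_of_ne h2 (ne_neg j), Equiv.swap_apply_right]

theorem tr_ne {i j k : Ix n} (h1 : k ≠ i) (h2 : k ≠ j) (h3 : k ≠ neg i) (h4 : k ≠ neg j) : tr i j k = k := by
  rw [tr, Equiv.Perm.mul_apply, Equiv.swap_apply_of_ne_of_ne h3 h4, Equiv.swap_apply_of_ne_of_ne h1 h2]

theorem w01_0 : (w01 hn).1 (i0 hn) = i1 hn := tr_left (d01 hn)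

theorem w01_1 : (w01 hn).1 (i1 hn) = i0 hn := tr_right (d01 hn)

theorem w01_mem : sw (F := F) (w01 hn) ∈ C0 hn := by
  refine mem_C0.2 fun a => commute_iff_conj.2 ?_
  rw [zz_eq0, sw_sx, w01_0, w01_1, sx_symm]

/-- the Weyl elements moving `3` -/
theorem exists_w {k : Ix n} (h0 : Dj k (i0 hn)) (h1 : Dj k (i1 hn)) :
    ∃ w : W n, w.1 (i0 hn) = i0 hn ∧ w.1 (i1 hn) = i1 hn ∧ w.1 (i2 hn) = k := by
  by_cases k1 : k = i2 hn
  · exact ⟨1, rfl, rfl, k1.symm⟩
  by_cases k2 : k = neg (i2 hn)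
  · refine ⟨⟨sg (i2 hn), sg_mem _⟩, ?_, ?_, ?_⟩
    · exact Equiv.swap_apply_of_ne_of_ne (d02 hn).1 (d02 hn).2
    · exact Equiv.swap_apply_of_ne_of_ne (d12 hn).1 (d12 hn).2
    · rw [k2]; exact Equiv.swap_apply_left _ _
  · have hd : Dj k (i2 hn) := ⟨k1, k2⟩
    refine ⟨⟨tr k (i2 hn), tr_mem hd⟩, tr_ne h0.1.symm (d02 hn).1 h0.symm.2 (d02 hn).2,
      tr_ne h1.1.symm (d12 hn).1 h1.symm.2 (d12 hn).2, tr_right hd⟩

end defs

section le

variable {hn : 3 ≤ n} [Finite F] {A B : Sy n F}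

theorem QSL_le_Up : (QSL (i0 hn) (i1 hn) : Subgroup (Sy n F)) ≤ Up n F := by
  intro A hA
  obtain ⟨h0, ⟨c, h1⟩, h2⟩ := hA
  rw [sub_eq_iff_eq_add] at h1
  have key : ∀ i : Fin n, ∃ a b : F, (i.1 < 1 → a = 0) ∧ (i.1 < 2 → b = 0) ∧
      rho n F A (be n F (Sum.inl i)) = be n F (Sum.inl i) + (a • be n F (i0 hn) + b • be n F (i1 hn)) := by
    intro i
    by_cases e0 : i = c0 hn
    · refine ⟨0, 0, fun _ => rfl, fun _ => rfl, ?_⟩
      rw [e0]
      have h3 : rho n F A (be n F (Sum.inl (c0 hn))) = be n F (Sum.inl (c0 hn)) := h0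
      rw [h3]; simp
    by_cases e1 : i = c1 hn
    · refine ⟨c, 0, fun h => ?_, fun _ => rfl, ?_⟩
      · rw [e1] at h; simp [c1] at h
      · rw [e1]
        have h3 : rho n F A (be n F (Sum.inl (c1 hn))) = c • be n F (i0 hn) + be n F (Sum.inl (c1 hn)) := h1
        rw [h3]; simp [add_comm]
    · have a0 : i.1 ≠ 0 := fun e => e0 (Fin.ext e)
      have a1 : i.1 ≠ 1 := fun e => e1 (Fin.ext e)
      obtain ⟨a, b, e⟩ := h2 (be n F (Sum.inl i)) ⟨by simp [i0, be_apply], by simp [i1, be_apply]⟩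
      rw [sub_eq_iff_eq_add] at e
      exact ⟨a, b, fun h => by omega, fun h => by omega, by rw [e, add_comm]⟩
  refine ⟨fun i => ?_, fun i j hij => ?_, fun i j => ?_⟩
  · obtain ⟨a, b, ha, hb, e⟩ := key i
    rw [e]
    simp only [Pi.add_apply, Pi.smul_apply, smul_eq_mul, be_apply, if_true, Pi.one_apply, i0, i1, Sum.inl.injEq]
    by_cases e0 : i = c0 hn
    · have h01 := c01 hn
      subst e0
      rw [ha (by simp [c0])]
      simp [h01]
    by_cases e1 : i = c1 hn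
    · subst e1
      rw [hb (by simp [c1])]
      simp [(c01 hn).symm]
    · simp [e0, e1]
  · obtain ⟨a, b, ha, hb, e⟩ := key i
    rw [e]
    have hij' : i.1 < j.1 := hij
    simp only [Pi.add_apply, Pi.smul_apply, smul_eq_mul, be_apply, i0, i1, Sum.inl.injEq]
    have h1 : j ≠ i := fun e => by rw [e] at hij'; omega
    have h2 : j ≠ c0 hn := fun e => by rw [e] at hij'; simp [c0] at hij'
    by_cases e1 : j = c1 hn
    · rw [hb (by rw [e1] at hij'; simp [c1] at hij'; omega)]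
      simp [h1, h2]
    · simp [h1, h2, e1]
  · obtain ⟨a, b, ha, hb, e⟩ := key i
    rw [e]
    simp [be_apply, i0, i1]

theorem QS_le_Up : (QS (i0 hn) (i1 hn) : Subgroup (Sy n F)) ≤ Up n F := QS_le_QSL.trans QSL_le_Up

theorem US_le_Up : (US (i0 hn) (i1 hn) : Subgroup (Sy n F)) ≤ Up n F := (US_le_QS (d01 hn)).trans QS_le_Up

theorem UL_le_Up : (UL (i0 hn) : Subgroup (Sy n F)) ≤ Up n F := (UL_le_QSL (d01 hn)).trans QSL_le_Up

theorem QS_le_C0 : (QS (i0 hn) (i1 hn) : Subgroup (Sy n F)) ≤ C0 hn := QS_le_Up.trans Up_le_C0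

theorem X12_le_US : (X12 hn : Subgroup (Sy n F)) ≤ US (i0 hn) (i1 hn) := by
  rintro _ ⟨a, rfl⟩
  rw [zz_eq0]
  exact sx_mem_US (d01 hn) a

theorem X12_le_UL : (X12 hn : Subgroup (Sy n F)) ≤ UL (i0 hn) := by
  rintro _ ⟨a, rfl⟩
  rw [zz_eq0, ← uu_be (d01 hn)]
  exact uu_mem_UL ((InE.right.prp (d01 hn)).smul a).1 _

/-! ### maximality -/

theorem comb (h0 : ∀ k, Dj k (i0 hn) → Dj k (i1 hn) → InE (i0 hn) (i1 hn) (rho n F A (be n F k) - be n F k))
    (h1 : rho n F A (be n F (i0 hn)) = be n F (i0 hn))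
    (h2 : InL (i0 hn) (rho n F A (be n F (i1 hn)) - be n F (i1 hn))) {v : Ix n → F} (hv : Prp (i0 hn) (i1 hn) v) :
    InE (i0 hn) (i1 hn) (rho n F A v - v) := by
  have e : rho n F A v - v = ∑ k, v k • (rho n F A (be n F k) - be n F k) := by
    have h3 : rho n F A v = ∑ k, v k • rho n F A (be n F k) := by
      conv_lhs => rw [expand v]
      rw [(SI.of_rho A).sum]
      exact Finset.sum_congr rfl fun k _ => rsmul _ _ _
    conv_lhs => rw [h3, expand v]
    rw [← Finset.sum_sub_distrib]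
    refine Finset.sum_congr rfl fun k _ => ?_
    rw [← expand v, smul_sub]
  rw [e]
  have key : ∀ k, InE (i0 hn) (i1 hn) (v k • (rho n F A (be n F k) - be n F k)) := by
    intro k
    by_cases k0 : k = i0 hn
    · rw [k0, h1, sub_self, smul_zero]; exact InE.zero
    by_cases k1 : k = i1 hn
    · rw [k1]; exact h2.inE.smul _
    by_cases k2 : k = neg (i0 hn)
    · rw [k2, hv.1, zero_smul]; exact InE.zero
    by_cases k3 : k = neg (i1 hn)
    · rw [k3, hv.2, zero_smul]; exact InE.zero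
    exact (h0 k ⟨k0, k2⟩ ⟨k1, k3⟩).smul _
  let M : AddSubmonoid (Ix n → F) :=
    { carrier := {v | InE (i0 hn) (i1 hn) v}, zero_mem' := InE.zero, add_mem' := InE.add }
  exact M.sum_mem fun k _ => key k

theorem up_e0 (hA : A ∈ Up n F) : rho n F A (be n F (i0 hn)) = be n F (i0 hn) := by
  have h := Tri.e0 hn hA
  rwa [Pi.one_apply, one_smul] at h

theorem up_e1 (hA : A ∈ Up n F) : InL (i0 hn) (rho n F A (be n F (i1 hn)) - be n F (i1 hn)) := by
  obtain ⟨μ, h⟩ := Tri.e1 hn hA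
  rw [Pi.one_apply, one_smul] at h
  exact ⟨μ, by rw [h]; abel⟩

theorem up_e2 (hA : A ∈ Up n F) : InE (i0 hn) (i1 hn) (rho n F A (be n F (i2 hn)) - be n F (i2 hn)) := by
  have h := Tri.e2 hn hA
  rwa [Pi.one_apply, one_smul] at h

theorem conj_be {w : W n} {k l : Ix n} (h : w.1 k = l) : rho n F (sw (F := F) w) (be n F k) = be n F l := by
  ext m
  rw [rho_sw, be_apply, be_apply]
  congr 1
  rw [W_inv_eq, h]

/-- (`Q_s U_l`) -/
theorem max_QSL (hA : A ∈ Up n F) (h : ∀ w ∈ E3 hn, w⁻¹ * A * w ∈ Up n F) : A ∈ QSL (i0 hn) (i1 hn) := by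
  refine ⟨up_e0 hA, up_e1 hA, fun v hv => comb (fun k hk0 hk1 => ?_) (up_e0 hA) (up_e1 hA) hv⟩
  obtain ⟨w, w0, w1, w2⟩ := exists_w hk0 hk1
  have hw := sw_mem_E3 (F := F) w0 w1
  have h1 := C0_fixE (E3_le_C0 hw)
  have h2 := h1.fwd _ (up_e2 (h _ hw))
  rw [rsub, conj_be w2, ← rmul] at h2
  have e : sw w * ((sw w)⁻¹ * A * sw w) = A * sw w := by group
  rwa [e, rmul, conj_be w2] at h2

/-- (`Q_s`) -/
theorem max_QS (hA : A ∈ Up n F) (h : ∀ w ∈ C0 hn, w⁻¹ * A * w ∈ Up n F) : A ∈ QS (i0 hn) (i1 hn) := by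
  obtain ⟨h0, h1, h2⟩ := max_QSL hA fun w hw => h w (E3_le_C0 hw)
  refine ⟨h0, ?_, h2⟩
  have h3 := up_e0 (hn := hn) (h _ w01_mem)
  have h4 := congrArg (rho n F (sw (w01 hn))) h3
  have e : sw (w01 hn) * ((sw (w01 hn))⁻¹ * A * sw (w01 hn)) = A * sw (w01 hn) := by group
  rwa [← rmul, e, rmul, conj_be w01_0] at h4

/-- a 2-subgroup normalised by `E3` is in `Q_s U_l` if it is in `Up` -/
theorem max_QS' {T : Subgroup (Sy n F)} (hT : IsPGroup 2 T) (hn' : C0 hn ≤ Subgroup.normalizer (T : Set (Sy n F))) :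
    T ≤ QS (i0 hn) (i1 hn) := by
  have h1 : T ≤ Up n F := by
    have h2 : Up n F ≤ Subgroup.normalizer (T : Set (Sy n F)) := Up_le_C0.trans hn'
    have h3 : IsPGroup 2 (T ⊔ Up n F : Subgroup (Sy n F)) := by
      have h4 := IsPGroup.to_sup_of_normal_left' hT isPGroup_Up h2
      exact h4
    exact le_sup_left.trans (Up_max h3 le_sup_right)
  intro A hA
  refine max_QS (h1 hA) fun w hw => h1 ?_
  have h2 := (Subgroup.mem_normalizer_iff.1 (inv_mem (hn' hw)) A).1 hA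
  rwa [inv_inv] at h2

/-! ### the center and the commutator subgroup of `Q_s` -/

omit [Finite F] in
theorem comm_sy_of_fix {i : Ix n} (h : rho n F B (be n F i) = be n F i) (a : F) : Commute B (sy i a) := by
  rw [commute_iff_conj]
  apply rho_injective
  rw [map_mul, map_mul, map_inv, sy, (SI.of_rho B).conj_transv, h]
  rfl

theorem comm_US_QS (hA : A ∈ US (i0 hn) (i1 hn)) (hB : B ∈ QS (i0 hn) (i1 hn)) : Commute B A := by
  obtain ⟨a, b, c, rfl⟩ := exists_US (d01 hn) hA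
  have h1 := mem_C0.1 (QS_le_C0 hB) c
  rw [zz_eq0] at h1
  exact (h1.mul_right (comm_sy_of_fix hB.1 a)).mul_right (comm_sy_of_fix hB.2.1 b)

omit [Finite F] in
theorem conj_uu_lin {p : Ix n} {b : Ix n → F} (hA : rho n F A (be n F p) = be n F p) (hb : b (neg p) = 0) (a : F) :
    A * uu p b a * A⁻¹ = uu p (rho n F A b) a := by
  apply rho_injective
  have h := conj_uu (SI.of_rho A) (l := 1) (by rw [hA, one_smul]) hb a
  rw [map_mul, map_mul, map_inv, ← h, one_smul, one_pow, one_mul]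
  rfl

omit [Finite F] in
theorem inL_inL {p q : Ix n} (hd : p ≠ q) {v : Ix n → F} (h : InL p v) (h' : InL q v) : v = 0 := by
  obtain ⟨a, rfl⟩ := h
  obtain ⟨b, e⟩ := h'
  have h1 := congrFun e p
  simp [be_apply, hd] at h1
  rw [h1, zero_smul]

theorem QS_cen (hA : A ∈ QS (i0 hn) (i1 hn)) (h : ∀ B ∈ QS (i0 hn) (i1 hn), Commute B A) :
    A ∈ US (i0 hn) (i1 hn) := by
  intro v hv
  have h1 : InL (i0 hn) (rho n F A v - v) := by
    have h2 := commute_iff_conj.1 (h _ (uu_mem_QS (d01 hn) hv 0)).symm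
    rw [conj_uu_lin hA.1 hv.1] at h2
    exact uu_inj ((C0_fixE (QS_le_C0 hA)).prp (SI.of_rho A) hv).1 hv.1 h2
  have h1' : InL (i1 hn) (rho n F A v - v) := by
    have h2 := commute_iff_conj.1 (h (uu (i1 hn) v 0) (by rw [QS_symm]; exact uu_mem_QS (d01 hn).symm hv.symm 0)).symm
    rw [conj_uu_lin hA.2.1 hv.2] at h2
    exact uu_inj ((C0_fixE (QS_le_C0 hA)).prp (SI.of_rho A) hv).2 hv.2 h2
  exact sub_eq_zero.1 (inL_inL (d01 hn).1 h1 h1')

theorem US_sq (hA : A ∈ US (i0 hn) (i1 hn)) : A * A = 1 := by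
  have h := hA
  obtain ⟨a, b, c, e⟩ := exists_US (d01 hn) hA
  refine rext fun v => ?_
  have h01 := (d01 hn).1
  have h2 : InE (i0 hn) (i1 hn) (rho n F A v - v) := by
    rw [e]
    have g1 : ∀ x, InE (i0 hn) (i1 hn) x →
        InE (i0 hn) (i1 hn) (rho n F (sx (i0 hn) (i1 hn) c * sy (i0 hn) a) (v + x) - v) := by
      intro x hx
      have g2 : rho n F (sx (i0 hn) (i1 hn) c * sy (i0 hn) a) (v + x) - v =
          (rho n F (zz hn c a) v - v) + rho n F (zz hn c a) x := by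
        rw [zz_eq, radd]; abel
      rw [g2]
      refine InE.add ?_ ?_
      · rw [zz_sub]; exact ⟨_, _, rfl⟩
      · exact (C0_fixE (E3_le_C0 (Up_le_E3 (zz_mem_Up hn c a)))).fwd _ hx
    rw [rmul, rho_sy]
    exact g1 _ (InE.right.smul _)
  rw [rmul, rone]
  have h3 := h _ (h2.prp (d01 hn))
  rw [rsub] at h3
  have h4 : rho n F A (rho n F A v) = v + (2 : F) • (rho n F A v - v) := by
    rw [sub_eq_iff_eq_add] at h3
    rw [h3, two_smul]; abel
  rw [h4, two0, zero_smul, add_zero]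

theorem US_eq : (US (i0 hn) (i1 hn) : Subgroup (Sy n F)) =
    QS (i0 hn) (i1 hn) ⊓ Subgroup.centralizer ((QS (i0 hn) (i1 hn) : Subgroup (Sy n F)) : Set (Sy n F)) := by
  apply le_antisymm
  · intro A hA
    refine ⟨US_le_QS (d01 hn) hA, Subgroup.mem_centralizer_iff.2 fun B hB => (comm_US_QS hA hB).eq⟩
  · rintro A ⟨hA, hA'⟩
    exact QS_cen hA fun B hB => Subgroup.mem_centralizer_iff.1 hA' B hB

theorem comm_mem_US (hA : A ∈ QS (i0 hn) (i1 hn)) (hB : B ∈ QS (i0 hn) (i1 hn)) : ⁅A, B⁆ ∈ US (i0 hn) (i1 hn) := by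
  intro v hv
  have hfix : ∀ C ∈ QS (i0 hn) (i1 hn), ∀ x : Ix n → F, InE (i0 hn) (i1 hn) x → rho n F C x = x := by
    rintro C hC _ ⟨a, b, rfl⟩
    rw [radd, rsmul, rsmul, hC.1, hC.2.1]
  have key : ∀ x : Ix n → F, Prp (i0 hn) (i1 hn) x → rho n F A (rho n F B x) = rho n F B (rho n F A x) := by
    intro x hx
    have e1 : rho n F A (rho n F B x) = rho n F A x + (rho n F B x - x) := by
      have e : rho n F B x = x + (rho n F B x - x) := by abel
      conv_lhs => rw [e, radd, hfix A hA _ (hB.2.2 x hx)]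
    have e2 : rho n F B (rho n F A x) = rho n F B x + (rho n F A x - x) := by
      have e : rho n F A x = x + (rho n F A x - x) := by abel
      conv_lhs => rw [e, radd, hfix B hB _ (hA.2.2 x hx)]
    rw [e1, e2]; abel
  have hx : Prp (i0 hn) (i1 hn) (rho n F (A⁻¹ * B⁻¹) v) :=
    (C0_fixE (QS_le_C0 (mul_mem (inv_mem hA) (inv_mem hB)))).prp (SI.of_rho _) hv
  have h1 := key _ hx
  have e : ⁅A, B⁆ = A * B * (A⁻¹ * B⁻¹) := by rw [commutatorElement_def]; group
  rw [e, rmul, rmul, h1, ← rmul, ← rmul]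
  have e2 : B * A * (A⁻¹ * B⁻¹) = 1 := by group
  rw [e2, rone]

omit [Finite F] in
theorem form_prp {p q : Ix n} {x y : Ix n → F} (hx : Prp p q x) (hy : InE p q y) : sympForm n F x y = 0 := by
  obtain ⟨a, b, rfl⟩ := hy
  rw [sympForm_add_right, sympForm_smul_right, sympForm_smul_right, form_be, form_be, hx.1, hx.2, mul_zero, mul_zero,
    add_zero]

/-- `(ABx, BAx) = 0` -/
theorem form_comm (hA : A ∈ QS (i0 hn) (i1 hn)) (hB : B ∈ QS (i0 hn) (i1 hn)) (x : Ix n → F) :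
    sympForm n F (rho n F A (rho n F B x)) (rho n F B (rho n F A x)) = 0 := by
  have hP : ∀ C ∈ QS (i0 hn) (i1 hn), Prp (i0 hn) (i1 hn) (rho n F C x - x) := by
    intro C hC
    constructor
    · have h1 := rform C x (be n F (i0 hn))
      rw [hC.1, form_be, form_be] at h1
      rw [Pi.sub_apply, h1, sub_self]
    · have h1 := rform C x (be n F (i1 hn))
      rw [hC.2.1, form_be, form_be] at h1
      rw [Pi.sub_apply, h1, sub_self]
  obtain ⟨u, hu⟩ : ∃ u, u = rho n F A x - x := ⟨_, rfl⟩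
  obtain ⟨w, hw⟩ : ∃ w, w = rho n F B x - x := ⟨_, rfl⟩
  have pu : Prp (i0 hn) (i1 hn) u := by rw [hu]; exact hP A hA
  have pw : Prp (i0 hn) (i1 hn) w := by rw [hw]; exact hP B hB
  have eA : rho n F A x = x + u := by rw [hu]; abel
  have eB : rho n F B x = x + w := by rw [hw]; abel
  obtain ⟨ε, hε⟩ : ∃ ε, ε = rho n F A w - w := ⟨_, rfl⟩
  obtain ⟨δ, hδ⟩ : ∃ δ, δ = rho n F B u - u := ⟨_, rfl⟩
  have pε : InE (i0 hn) (i1 hn) ε := by rw [hε]; exact hA.2.2 w pw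
  have pδ : InE (i0 hn) (i1 hn) δ := by rw [hδ]; exact hB.2.2 u pu
  have eAw : rho n F A w = w + ε := by rw [hε]; abel
  have eBu : rho n F B u = u + δ := by rw [hδ]; abel
  have f1 := rform B x u
  have f2 := rform A x w
  rw [eB, eBu] at f1
  rw [eA, eAw] at f2
  rw [eB, radd, eA, eAw, radd, eB, eBu]
  simp only [sympForm_add_right, sympForm_add_left, sympForm_self] at f1 f2 ⊢
  have g1 := form_prp pw pδ
  have g2 := form_prp pu pε
  have g3 := form_prp pu pδ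
  have g4 := form_prp pw pε
  have g5 := form_prp (pε.prp (d01 hn)) pδ
  have c1 := fsymm w u
  have c2 := fsymm u x
  have c3 := fsymm w x
  have c4 := fsymm ε x
  have c5 := fsymm ε u
  have c6 := fsymm ε w
  rw [c5, c6, c4, c1, c2, c3]
  rw [c1] at f1
  linear_combination f1 + f2 + g3 + g4 + g5 + (sympForm n F x u + sympForm n F x w + sympForm n F u w) *
    (two0 : (2 : F) = 0) - (sympForm n F u w) * (two0 : (2 : F) = 0)

end le

end Cfsg.Agent.Omega.All.SpN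

end

section


/-!
# THEOREM F1-h1, `Sp_2n(q)`: facts inside `Sp_2n(F)`, II (helper678)

* `comm_QS` : `[Q_s, Q_s] = X_12`; `irr_QS` : a `C0`-invariant `T ≤ Q_s` with `C_{Q_s}(T) ≤ T` is `Q_s`;
* `typ_US`, `typ_UL` : types of elements of `U_s`, `U_l`; `exists_torus`.
-/

set_option autoImplicit false
set_option linter.unusedSectionVars false

namespace Cfsg.Agent.Omega.All.SpN

open Cfsg Cfsg.Agent.ClassicalGeometry.SympBasic Cfsg.Agent.ClassicalGeometry.SympAutSemi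
open Cfsg.Agent.OddHalf.SpN Cfsg.Agent.OddHalf.SpN.Out
open scoped Matrix commutatorElement

variable {n : ℕ} {F : Type*} [Field F] [CharP F 2] {hn : 3 ≤ n} [Finite F] {A B : Sy n F}

theorem prp_be {p q k : Ix n} (h0 : Dj k p) (h1 : Dj k q) : Prp p q (be n F k) := by
  constructor
  · rw [be_apply, if_neg h0.2.symm]
  · rw [be_apply, if_neg h1.2.symm]

theorem sx_mem_QS {k : Ix n} (h0 : Dj k (i0 hn)) (h1 : Dj k (i1 hn)) (a : F) :
    sx (i0 hn) k a ∈ QS (i0 hn) (i1 hn) := by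
  rw [← uu_be h0.symm]
  exact uu_mem_QS (d01 hn) ((prp_be h0 h1).smul a) 0

theorem sx_mem_QS' {k : Ix n} (h0 : Dj k (i0 hn)) (h1 : Dj k (i1 hn)) (a : F) :
    sx (i1 hn) k a ∈ QS (i0 hn) (i1 hn) := by
  rw [← uu_be h1.symm, QS_symm]
  exact uu_mem_QS (d01 hn).symm ((prp_be h1 h0).smul a) 0

theorem comm_mem_X12 (hA : A ∈ QS (i0 hn) (i1 hn)) (hB : B ∈ QS (i0 hn) (i1 hn)) : ⁅A, B⁆ ∈ X12 hn := by
  obtain ⟨a, b, c, e⟩ := exists_US (d01 hn) (comm_mem_US hA hB)
  have hD : ∀ y, rho n F ⁅A, B⁆ y = y + (c * y (neg (i1 hn)) + a * y (neg (i0 hn))) • be n F (i0 hn) +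
      (c * y (neg (i0 hn)) + b * y (neg (i1 hn))) • be n F (i1 hn) := by
    intro y
    have h01 := (d01 hn).1
    have h1 : be n F (i1 hn) (neg (i0 hn)) = (0 : F) := (InE.right.prp (d01 hn)).1
    have h2 : be n F (i1 hn) (neg (i1 hn)) = (0 : F) := (InE.right.prp (d01 hn)).2
    have h3 : be n F (i0 hn) (neg (i0 hn)) = (0 : F) := (InE.left.prp (d01 hn)).1
    have h4 : be n F (i0 hn) (neg (i1 hn)) = (0 : F) := (InE.left.prp (d01 hn)).2
    rw [e, rmul, rmul, rho_sy, rho_sy, rho_sx (d01 hn)]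
    ext k
    simp only [Pi.add_apply, Pi.smul_apply, smul_eq_mul, h1, h2, h3, h4]
    ring
  have key : ∀ x, sympForm n F (rho n F ⁅A, B⁆ (rho n F B (rho n F A x))) (rho n F B (rho n F A x)) = 0 := by
    intro x
    have h1 : rho n F ⁅A, B⁆ (rho n F B (rho n F A x)) = rho n F A (rho n F B x) := by
      rw [← rmul, ← rmul, ← rmul]
      have e2 : ⁅A, B⁆ * (B * A) = A * B := by rw [commutatorElement_def]; group
      rw [mul_assoc, e2, rmul]
    rw [h1]
    exact form_comm hA hB x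
  have hi : ∀ x (k : Ix n), rho n F A (be n F k) = be n F k → rho n F B (be n F k) = be n F k →
      rho n F B (rho n F A x) (neg k) = x (neg k) := by
    intro x k h1 h2
    have h3 := rform B (rho n F A x) (be n F k)
    have h4 := rform A x (be n F k)
    rw [h2, form_be, form_be] at h3
    rw [h1, form_be, form_be] at h4
    rw [h3, h4]
  have hk0 : ∀ x, rho n F B (rho n F A x) (neg (i0 hn)) = x (neg (i0 hn)) := fun x => hi x _ hA.1 hB.1
  have hk1 : ∀ x, rho n F B (rho n F A x) (neg (i1 hn)) = x (neg (i1 hn)) := fun x => hi x _ hA.2.1 hB.2.1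
  have g : ∀ x : Ix n → F, a * (x (neg (i0 hn))) ^ 2 + b * (x (neg (i1 hn))) ^ 2 = 0 := by
    intro x
    have h1 := key x
    rw [hD, sympForm_add_left, sympForm_add_left, sympForm_smul_left, sympForm_smul_left, sympForm_self, form_be',
      form_be', hk0, hk1] at h1
    linear_combination h1 - (c * x (neg (i0 hn)) * x (neg (i1 hn))) * (two0 : (2 : F) = 0)
  have ha : a = 0 := by
    have h1 := g (be n F (neg (i0 hn)))
    have h2 : (be n F (neg (i0 hn)) : Ix n → F) (neg (i1 hn)) = 0 := by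
      rw [be_apply, if_neg fun e => (d01 hn).1 (OddHalf.SpN.neg_inj.1 e).symm]
    simpa [h2, be_apply] using h1
  have hb : b = 0 := by
    have h1 := g (be n F (neg (i1 hn)))
    have h2 : (be n F (neg (i1 hn)) : Ix n → F) (neg (i0 hn)) = 0 := by
      rw [be_apply, if_neg fun e => (d01 hn).1 (OddHalf.SpN.neg_inj.1 e)]
    simpa [h2, be_apply] using h1
  refine ⟨c, ?_⟩
  rw [e, ha, hb, sy_zero, sy_zero, mul_one, mul_one, zz_eq0]

theorem d21 (hn : 3 ≤ n) : Dj (neg (i2 hn)) (i1 hn) := dj_neg_left.2 (d12 hn).symm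

theorem d20 (hn : 3 ≤ n) : Dj (neg (i2 hn)) (i0 hn) := dj_neg_left.2 (d02 hn).symm

theorem comm_QS : ⁅(QS (i0 hn) (i1 hn) : Subgroup (Sy n F)), QS (i0 hn) (i1 hn)⁆ = (X12 hn : Subgroup (Sy n F)) := by
  apply le_antisymm
  · exact Subgroup.commutator_le.2 fun A hA B hB => comm_mem_X12 hA hB
  · rintro _ ⟨a, rfl⟩
    have h := sx_rel (d02 hn) (d12 hn).symm (d01 hn) 1 a
    rw [one_mul] at h
    have e : zz hn a 0 = ⁅sx (i0 hn) (i2 hn) (1 : F), sx (i1 hn) (neg (i2 hn)) a⁆ := by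
      rw [zz_eq0, commutatorElement_def, sx_symm (i1 hn) (neg (i2 hn)), h]; group
    rw [e]
    exact Subgroup.commutator_mem_commutator (sx_mem_QS (d02 hn).symm (d12 hn).symm 1)
      (sx_mem_QS' (d20 hn) (d21 hn) a)

/-! ### irreducibility -/

/-- elements of `C0` from transvections -/
theorem transv_mem_E3 {u : Ix n → F} (hu : Prp (i0 hn) (i1 hn) u) (a : F) : transv u a ∈ E3 hn := by
  refine mem_E3.2 fun x y => ?_
  have h1 : rho n F (transv u a) (be n F (i0 hn)) = be n F (i0 hn) := by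
    rw [rho_transv, form_be', hu.1]; simp
  have h2 : rho n F (transv u a) (be n F (i1 hn)) = be n F (i1 hn) := by
    rw [rho_transv, form_be', hu.2]; simp
  rw [zz_eq]
  refine Commute.mul_right ?_ (comm_sy_of_fix h1 y)
  rw [← uu_be (d01 hn), commute_iff_conj, conj_uu_lin h1 ((InE.right.prp (d01 hn)).smul x).1, rsmul, h2]

theorem nonE {u : Ix n → F} (hu : Prp (i0 hn) (i1 hn) u) (h : ¬ InE (i0 hn) (i1 hn) u) :
    ∃ k, Dj k (i0 hn) ∧ Dj k (i1 hn) ∧ u k ≠ 0 := by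
  by_contra hne
  push Not at hne
  apply h
  refine ⟨u (i0 hn), u (i1 hn), ?_⟩
  ext k
  have h01 := (d01 hn).1
  by_cases k1 : k = i0 hn
  · subst k1; simp [be_apply, h01]
  by_cases k2 : k = i1 hn
  · subst k2; simp [be_apply, h01.symm]
  have h3 : u k = 0 := by
    by_cases k3 : k = neg (i0 hn)
    · rw [k3]; exact hu.1
    by_cases k4 : k = neg (i1 hn)
    · rw [k4]; exact hu.2
    exact hne k ⟨k1, k3⟩ ⟨k2, k4⟩
  simp [be_apply, k1, k2, h3]

/-- `C0` moves a vector of `E` to `⟨e_1⟩` -/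
theorem exists_C0 {e : Ix n → F} (he : InE (i0 hn) (i1 hn) e) :
    ∃ g ∈ (C0 hn : Subgroup (Sy n F)), ∃ l : F, rho n F g e = l • be n F (i0 hn) := by
  obtain ⟨a, b, rfl⟩ := he
  by_cases hb : b = 0
  · exact ⟨1, one_mem _, a, by rw [rone, hb, zero_smul, add_zero]⟩
  · have hd : Dj (i0 hn) (neg (i1 hn)) := dj_neg_right.2 (d01 hn)
    have h1 : sx (i0 hn) (neg (i1 hn)) (a / b) ∈ C0 hn := by
      refine mem_C0.2 fun x => ?_
      rw [zz_eq0]
      have h := (sx_comm' (F := F) (i := i1 hn) (j := i0 hn) x (a / b)).symm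
      rwa [sx_symm (neg (i1 hn)), sx_symm (i1 hn)] at h
    refine ⟨sw (w01 hn) * sx (i0 hn) (neg (i1 hn)) (a / b), mul_mem w01_mem h1, b, ?_⟩
    have h01 := (d01 hn).1
    have h3 : be n F (i0 hn) (neg (i0 hn)) = (0 : F) := (InE.left.prp (d01 hn)).1
    have h4 : be n F (i1 hn) (neg (i0 hn)) = (0 : F) := (InE.right.prp (d01 hn)).1
    have h5 : be n F (i0 hn) (i1 hn) = (0 : F) := by rw [be_apply, if_neg h01.symm]
    have h6 : be n F (i1 hn) (i1 hn) = (1 : F) := by rw [be_apply, if_pos rfl]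
    have h2 : rho n F (sx (i0 hn) (neg (i1 hn)) (a / b)) (a • be n F (i0 hn) + b • be n F (i1 hn)) =
        b • be n F (i1 hn) := by
      rw [rho_sx hd, neg_neg]
      simp only [Pi.add_apply, Pi.smul_apply, smul_eq_mul, h3, h4, h5, h6, mul_zero, add_zero, zero_smul, zero_add,
        mul_one, div_mul_cancel₀ _ hb]
      rw [add_right_comm, ← two_smul F, two0, zero_smul, zero_add]
    rw [rmul, h2, rsmul, conj_be w01_1]

section irr

variable {T : Subgroup (Sy n F)} (hT : T ≤ QS (i0 hn) (i1 hn))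
  (hC : C0 hn ≤ Subgroup.normalizer (T : Set (Sy n F)))
  (hcen : QS (i0 hn) (i1 hn) ⊓ Subgroup.centralizer (T : Set (Sy n F)) ≤ T)

include hT hC hcen

theorem irr_US : US (i0 hn) (i1 hn) ≤ T := fun _ hA =>
  hcen ⟨US_le_QS (d01 hn) hA, Subgroup.mem_centralizer_iff.2 fun _ hB => (comm_US_QS hA (hT hB)).eq⟩

theorem irr_conj {g t : Sy n F} (hg : g ∈ C0 hn) (ht : t ∈ T) : g * t * g⁻¹ ∈ T :=
  (Subgroup.mem_normalizer_iff.1 (hC hg) t).1 ht

theorem irr_moved : ∃ t ∈ T, t ∉ US (i0 hn) (i1 hn) := by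
  by_contra hne
  push Not at hne
  have h1 : QS (i0 hn) (i1 hn) ≤ T := fun A hA =>
    hcen ⟨hA, Subgroup.mem_centralizer_iff.2 fun _ hB => (comm_US_QS (hne _ hB) hA).eq.symm⟩
  have h2 := hne _ (h1 (sx_mem_QS (d02 hn).symm (d12 hn).symm (1 : F))) (be n F (neg (i2 hn))) (prp_be (d20 hn) (d21 hn))
  have h3 := congrFun h2 (i0 hn)
  rw [rho_sx (d02 hn)] at h3
  have g1 := (d20 hn).1
  have g2 := (d02 hn).1
  simp [be_apply, g1.symm, g2] at h3

/-- an element of `T ∩ U_l` outside `U_s` -/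
theorem irr_uu : ∃ u : Ix n → F, Prp (i0 hn) (i1 hn) u ∧ ¬ InE (i0 hn) (i1 hn) u ∧ uu (i0 hn) u 0 ∈ T := by
  obtain ⟨t, ht, hne⟩ := irr_moved hT hC hcen
  obtain ⟨u, hu, hu'⟩ : ∃ u, Prp (i0 hn) (i1 hn) u ∧ rho n F t u ≠ u := by
    by_contra h
    push Not at h
    exact hne h
  obtain ⟨e, he⟩ : ∃ e, e = rho n F t u - u := ⟨_, rfl⟩
  have he' : rho n F t u = u + e := by rw [he]; abel
  have heE : InE (i0 hn) (i1 hn) e := by rw [he]; exact (hT ht).2.2 u hu
  have he0 : e ≠ 0 := fun h => hu' (by rw [he', h, add_zero])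
  have huE : ¬ InE (i0 hn) (i1 hn) u := by
    rintro ⟨a, b, rfl⟩
    apply hu'
    rw [radd, rsmul, rsmul, (hT ht).1, (hT ht).2.1]
  -- the commutator with a transvection
  set y : Sy n F := transv u 1 with hy
  have hyC : y ∈ C0 hn := E3_le_C0 (transv_mem_E3 hu 1)
  have hr : y * t * y⁻¹ * t⁻¹ ∈ T := mul_mem (irr_conj hT hC hcen hyC ht) (inv_mem ht)
  have hy2 : y * (t * y⁻¹ * t⁻¹) = y * t * y⁻¹ * t⁻¹ := by group
  have hyy : y⁻¹ = y := by
    rw [inv_eq_iff_mul_eq_one]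
    refine rext fun v => ?_
    rw [rmul, hy, rho_transv, rho_transv, rone, sympForm_add_left, sympForm_smul_left, sympForm_self]
    ext k
    simp only [Pi.add_apply, Pi.smul_apply, smul_eq_mul]
    linear_combination (sympForm n F v u * u k) * (two0 : (2 : F) = 0)
  have hty : t * y⁻¹ * t⁻¹ = transv (u + e) 1 := by
    rw [hyy]
    apply rho_injective
    rw [map_mul, map_mul, map_inv, hy, (SI.of_rho t).conj_transv, he', map_one]
  have hrv : ∀ v, Prp (i0 hn) (i1 hn) v → rho n F (y * t * y⁻¹ * t⁻¹) v = v + sympForm n F v u • e := by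
    intro v hv
    rw [← hy2, hty, rmul, hy, rho_transv, rho_transv]
    have g1 : sympForm n F v e = 0 := form_prp hv heE
    have g2 : sympForm n F e u = 0 := by rw [fsymm]; exact form_prp hu heE
    simp only [sympForm_add_right, sympForm_add_left, sympForm_smul_left, sympForm_self, g1, g2, mul_zero, add_zero,
      one_mul]
    ext k
    simp only [Pi.add_apply, Pi.smul_apply, smul_eq_mul]
    linear_combination (sympForm n F v u * u k) * (two0 : (2 : F) = 0)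
  obtain ⟨g, hg, l, hl⟩ := exists_C0 heE
  have hl0 : l ≠ 0 := by
    rintro rfl
    rw [zero_smul] at hl
    exact he0 ((rho n F g).injective (hl.trans (rzero g).symm))
  have hgE := C0_fixE hg
  have hgu : Prp (i0 hn) (i1 hn) (rho n F g u) := hgE.prp (SI.of_rho g) hu
  have hgT := irr_conj hT hC hcen hg hr
  set r := y * t * y⁻¹ * t⁻¹ with hr'
  refine ⟨l • rho n F g u, hgu.smul l, fun h => huE ?_, ?_⟩
  · have h1 := (hgE.bwd _ h).smul l⁻¹
    rw [← map_inv, rsmul, rinv_self, smul_smul, inv_mul_cancel₀ hl0, one_smul] at h1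
    exact h1
  · have hU : uu (i0 hn) (l • rho n F g u) 0 * (g * r * g⁻¹)⁻¹ ∈ US (i0 hn) (i1 hn) := by
      have hQ : uu (i0 hn) (l • rho n F g u) 0 ∈ QS (i0 hn) (i1 hn) := uu_mem_QS (d01 hn) (hgu.smul l) 0
      have key : ∀ v, Prp (i0 hn) (i1 hn) v →
          rho n F (uu (i0 hn) (l • rho n F g u) 0) v = rho n F (g * r * g⁻¹) v := by
        intro v hv
        have hv' : Prp (i0 hn) (i1 hn) (rho n F g⁻¹ v) := (C0_fixE (inv_mem hg)).prp (SI.of_rho _) hv
        rw [rmul, rmul, hrv _ hv', radd, rself_inv, rsmul, hl, rho_uu (hgu.smul l).1, hv.1, zero_smul, mul_zero,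
          add_zero, add_zero, smul_smul, sympForm_smul_right]
        congr 2
        have h1 := rform g (rho n F g⁻¹ v) u
        rw [rself_inv] at h1
        rw [h1, mul_comm]
      intro v hv
      have hv' : Prp (i0 hn) (i1 hn) (rho n F (g * r * g⁻¹)⁻¹ v) :=
        (C0_fixE (inv_mem (QS_le_C0 (hT hgT)))).prp (SI.of_rho _) hv
      rw [rmul, key _ hv', rself_inv]
    have h2 := mul_mem (irr_US hT hC hcen hU) hgT
    rwa [inv_mul_cancel_right] at h2

/-- a root group -/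
theorem irr_sx (s : F) : sx (i0 hn) (i2 hn) s ∈ T := by
  obtain ⟨u, hu, huE, huT⟩ := irr_uu hT hC hcen
  obtain ⟨k, hk0, hk1, hk⟩ := nonE hu huE
  have hk0' : Dj (neg k) (i0 hn) := dj_neg_left.2 hk0
  have hk1' : Dj (neg k) (i1 hn) := dj_neg_left.2 hk1
  set c := s / u k with hc
  have hy : transv (be n F (neg k)) c ∈ C0 hn := E3_le_C0 (transv_mem_E3 (prp_be hk0' hk1') c)
  have h1 := irr_conj hT hC hcen hy huT
  have hyp : rho n F (transv (be n F (neg k)) c) (be n F (i0 hn)) = be n F (i0 hn) := by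
    have h := sympForm_self (m := n) (F := F) (be n F (i0 hn))
    rw [rho_transv, form_be, neg_neg, be_apply, if_neg hk0.1, mul_zero, zero_smul, add_zero]
  rw [conj_uu_lin hyp hu.1] at h1
  have e1 : rho n F (transv (be n F (neg k)) c) u = u + s • be n F (neg k) := by
    rw [rho_transv, form_be, neg_neg, hc, div_mul_cancel₀ _ hk]
  rw [e1] at h1
  have h2 := mul_mem h1 huT
  have hks : Prp (i0 hn) (i1 hn) (s • be n F (neg k)) := (prp_be hk0' hk1').smul s
  rw [uu_mul (hu.add hks).1 hu.1] at h2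
  have e2 : u + s • be n F (neg k) + u = s • be n F (neg k) := by
    ext m
    simp only [Pi.add_apply, Pi.smul_apply, smul_eq_mul]
    linear_combination (u m) * (two0 : (2 : F) = 0)
  rw [e2, uu_q hk0'.symm] at h2
  have h3 : sx (i0 hn) (neg k) s ∈ T := by
    have h4 := mul_mem h2 (inv_mem (irr_US hT hC hcen (sy_mem_US (p := i0 hn) (q := i1 hn)
      (0 + 0 + sympForm n F u (u + s • be n F (neg k))))))
    rwa [mul_inv_cancel_right] at h4
  obtain ⟨w, w0, w1, w2⟩ := exists_w hk0' hk1'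
  have h4 := irr_conj hT hC hcen (inv_mem (E3_le_C0 (sw_mem_E3 (F := F) w0 w1))) h3
  rw [← map_inv, sw_sx] at h4
  have e3 : (w⁻¹).1 (i0 hn) = i0 hn := (W_inv_eq w).2 w0.symm
  have e4 : (w⁻¹).1 (neg k) = i2 hn := (W_inv_eq w).2 w2.symm
  rwa [e3, e4] at h4

theorem irr_all {b : Ix n → F} (hb : Prp (i0 hn) (i1 hn) b) : ∀ a, uu (i0 hn) b a ∈ T := by
  have hsx : ∀ k, Dj k (i0 hn) → Dj k (i1 hn) → ∀ s, sx (i0 hn) k s ∈ T := by
    intro k hk0 hk1 s
    obtain ⟨w, w0, w1, w2⟩ := exists_w hk0 hk1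
    have h4 := irr_conj hT hC hcen (E3_le_C0 (sw_mem_E3 (F := F) w0 w1)) (irr_sx hT hC hcen s)
    rwa [sw_sx, w0, w2] at h4
  have hUS := irr_US hT hC hcen
  let M : AddSubmonoid (Ix n → F) :=
    { carrier := {v | Prp (i0 hn) (i1 hn) v ∧ ∀ a, uu (i0 hn) v a ∈ T}
      zero_mem' := ⟨Prp.zero, fun a => by rw [uu_zero]; exact hUS (sy_mem_US a)⟩
      add_mem' := by
        rintro x y ⟨hx, hx'⟩ ⟨hy, hy'⟩
        refine ⟨hx.add hy, fun a => ?_⟩
        have h := mul_mem (hx' (a - sympForm n F y x)) (hy' 0)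
        rw [uu_mul hx.1 hy.1, add_zero, sub_add_cancel] at h
        exact h }
  have key : b ∈ M := by
    rw [expand b]
    refine M.sum_mem fun k _ => ?_
    by_cases k0 : k = i0 hn
    · subst k0
      refine ⟨(InE.left.prp (d01 hn)).smul _, fun a => ?_⟩
      have h := uu_add_p (p := i0 hn) (b := (0 : Ix n → F)) rfl (b (i0 hn)) a
      rw [zero_add] at h
      rw [h, uu_zero]
      exact hUS (sy_mem_US a)
    by_cases k1 : k = i1 hn
    · subst k1
      refine ⟨(InE.right.prp (d01 hn)).smul _, fun a => ?_⟩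
      rw [uu_q (d01 hn)]
      exact mul_mem (hUS (sx_mem_US (d01 hn) _)) (hUS (sy_mem_US a))
    by_cases k2 : k = neg (i0 hn)
    · rw [k2, hb.1, zero_smul]; exact M.zero_mem
    by_cases k3 : k = neg (i1 hn)
    · rw [k3, hb.2, zero_smul]; exact M.zero_mem
    have hk0 : Dj k (i0 hn) := ⟨k0, k2⟩
    have hk1 : Dj k (i1 hn) := ⟨k1, k3⟩
    refine ⟨(prp_be hk0 hk1).smul _, fun a => ?_⟩
    rw [uu_q hk0.symm]
    exact mul_mem (hsx k hk0 hk1 _) (hUS (sy_mem_US a))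
  exact key.2

theorem irr_QS : T = QS (i0 hn) (i1 hn) := by
  refine le_antisymm hT fun A hA => ?_
  obtain ⟨b, a, b', a', hb, hb', rfl⟩ := exists_JJ (d01 hn) hA
  refine mul_mem (irr_all hT hC hcen hb a) ?_
  have hw := w01_mem (F := F) (hn := hn)
  have hb2 : Prp (i0 hn) (i1 hn) (rho n F (sw (w01 hn))⁻¹ b') := (C0_fixE (inv_mem hw)).prp (SI.of_rho _) hb'
  have h := irr_conj hT hC hcen hw (irr_all hT hC hcen hb2 a')
  have e : sw (w01 hn) * uu (i0 hn) (rho n F (sw (w01 hn))⁻¹ b') a' * (sw (w01 hn))⁻¹ = uu (i1 hn) b' a' := by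
    apply rho_injective
    rw [map_mul, map_mul, map_inv]
    refine Equiv.ext fun v => ?_
    rw [← map_inv, Equiv.Perm.mul_apply, Equiv.Perm.mul_apply, rho_uu hb2.1, rho_uu hb'.2, radd, radd, rself_inv, rsmul,
      rself_inv, rsmul, conj_be w01_0]
    have g1 : rho n F (sw (w01 hn))⁻¹ v (neg (i0 hn)) = v (neg (i1 hn)) := by
      have h1 := rform (sw (F := F) (w01 hn)) (rho n F (sw (w01 hn))⁻¹ v) (be n F (i0 hn))
      rw [rself_inv, conj_be w01_0, form_be, form_be] at h1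
      exact h1.symm
    have g2 : sympForm n F (rho n F (sw (w01 hn))⁻¹ v) (rho n F (sw (w01 hn))⁻¹ b') = sympForm n F v b' :=
      rform _ _ _
    rw [g1, g2]
  rwa [e] at h

end irr

end Cfsg.Agent.Omega.All.SpN

end

section


/-!
# THEOREM F1-h1, `Sp_2n(q)`: facts inside `Sp_2n(F)`, III (helper678)

* `QSL_eq` : `QSL = QS ⊔ UL`; `conj_zz_sh` (torus); `typ_US`, `typ_UL` : every element of `U_s`, `U_l` is conjugate into
  a group containing some `x_12(a) ≠ 1` and some `y_1(b) ≠ 1`.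
-/

set_option autoImplicit false
set_option linter.unusedSectionVars false

namespace Cfsg.Agent.Omega.All.SpN

open Cfsg Cfsg.Agent.ClassicalGeometry.SympBasic Cfsg.Agent.ClassicalGeometry.SympAutSemi
open Cfsg.Agent.OddHalf.SpN Cfsg.Agent.OddHalf.SpN.Out
open scoped Matrix commutatorElement

variable {n : ℕ} {F : Type*} [Field F] [CharP F 2] {hn : 3 ≤ n} [Finite F] {A B : Sy n F}

theorem QSL_eq : (QSL (i0 hn) (i1 hn) : Subgroup (Sy n F)) = QS (i0 hn) (i1 hn) ⊔ UL (i0 hn) := by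
  apply le_antisymm
  · intro A hA
    have h := hA
    obtain ⟨h0, ⟨c, h1⟩, h2⟩ := hA
    rw [sub_eq_iff_eq_add] at h1
    have hd : Dj (i0 hn) (neg (i1 hn)) := dj_neg_right.2 (d01 hn)
    have g : sx (i0 hn) (neg (i1 hn)) c ∈ UL (i0 hn) := by
      rw [← uu_be hd]
      refine uu_mem_UL ?_ 0
      rw [Pi.smul_apply, be_apply, if_neg fun e => (d01 hn).1 (OddHalf.SpN.neg_inj.1 e), smul_zero]
    have g' := UL_le_QSL (d01 hn) g
    set x := sx (i0 hn) (neg (i1 hn)) c with hx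
    have g1 : x * A ∈ QS (i0 hn) (i1 hn) := by
      have g2 := mul_mem g' h
      refine ⟨g2.1, ?_, g2.2.2⟩
      have h3 : be n F (i1 hn) (neg (i0 hn)) = (0 : F) := (InE.right.prp (d01 hn)).1
      have h4 : be n F (i1 hn) (i1 hn) = (1 : F) := by rw [be_apply, if_pos rfl]
      rw [rmul, h1, radd, rsmul, g.1, hx, rho_sx hd, neg_neg, h3, h4, mul_zero, zero_smul, add_zero, mul_one]
      ext k
      simp only [Pi.add_apply, Pi.smul_apply, smul_eq_mul]
      linear_combination (c * be n F (i0 hn) k) * (two0 : (2 : F) = 0)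
    have e : A = x⁻¹ * (x * A) := by group
    rw [e]
    exact mul_mem (inv_mem (Subgroup.mem_sup_right g)) (Subgroup.mem_sup_left g1)
  · exact sup_le QS_le_QSL (UL_le_QSL (d01 hn))

/-- a torus element -/
noncomputable def tor (hn : 3 ≤ n) (l0 l1 : Fˣ) : Sy n F :=
  sh (Function.update (Function.update (1 : Fin n → Fˣ) (c1 hn) l1) (c0 hn) l0)

theorem conj_zz_tor (l0 l1 : Fˣ) (a b : F) :
    tor hn l0 l1 * zz hn a b * (tor hn l0 l1)⁻¹ = zz hn (l0 * l1 * a) (l0 ^ 2 * b) := by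
  have e0 : ev (Function.update (Function.update (1 : Fin n → Fˣ) (c1 hn) l1) (c0 hn) l0) (i0 hn) = l0 := by
    show Function.update (Function.update (1 : Fin n → Fˣ) (c1 hn) l1) (c0 hn) l0 (c0 hn) = l0
    rw [Function.update_self]
  have e1 : ev (Function.update (Function.update (1 : Fin n → Fˣ) (c1 hn) l1) (c0 hn) l0) (i1 hn) = l1 := by
    show Function.update (Function.update (1 : Fin n → Fˣ) (c1 hn) l1) (c0 hn) l0 (c1 hn) = l1
    rw [Function.update_of_ne (c01 hn).symm, Function.update_self]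
  have e : tor hn l0 l1 * (sx (i0 hn) (i1 hn) a * sy (i0 hn) b) * (tor hn l0 l1)⁻¹ =
      (tor hn l0 l1 * sx (i0 hn) (i1 hn) a * (tor hn l0 l1)⁻¹) *
        (tor hn l0 l1 * sy (i0 hn) b * (tor hn l0 l1)⁻¹) := by group
  rw [zz_eq, e, tor, sh_sx, sh_sy, e0, e1]
  rfl

theorem typ_zz {Z : Subgroup (Sy n F)} {a0 b0 : F} (ha0 : a0 ≠ 0) (hb0 : b0 ≠ 0) (h1 : zz hn a0 0 ∈ Z)
    (h2 : zz hn 0 b0 ∈ Z) (a b : F) : ∃ g : Sy n F, g * zz hn a b * g⁻¹ ∈ Z := by
  have h3 : zz hn a0 b0 ∈ Z := by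
    have := mul_mem h1 h2
    rwa [zz_mul, add_zero, zero_add] at this
  by_cases hb : b = 0
  · subst hb
    by_cases ha : a = 0
    · subst ha
      exact ⟨1, by rw [zz_zero]; simp [one_mem]⟩
    · refine ⟨tor hn (Units.mk0 (a0 / a) (div_ne_zero ha0 ha)) 1, ?_⟩
      rw [conj_zz_tor, Units.val_mk0, Units.val_one, mul_one, mul_zero, div_mul_cancel₀ _ ha]
      exact h1
  · obtain ⟨l, hl⟩ := exists_sqrt (F := F) (b0 / b)
    have hl0 : l ≠ 0 := by
      rintro rfl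
      rw [mul_zero] at hl
      exact div_ne_zero hb0 hb hl.symm
    have e : l ^ 2 * b = b0 := by rw [pow_two, hl, div_mul_cancel₀ _ hb]
    by_cases ha : a = 0
    · subst ha
      refine ⟨tor hn (Units.mk0 l hl0) 1, ?_⟩
      rw [conj_zz_tor, Units.val_mk0, mul_zero, e]
      exact h2
    · refine ⟨tor hn (Units.mk0 l hl0) (Units.mk0 (a0 / (l * a)) (div_ne_zero ha0 (mul_ne_zero hl0 ha))), ?_⟩
      rw [conj_zz_tor, Units.val_mk0, Units.val_mk0, e]
      have e' : l * (a0 / (l * a)) * a = a0 := by field_simp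
      rw [e']
      exact h3

theorem typ_US {Z : Subgroup (Sy n F)} {a0 b0 : F} (ha0 : a0 ≠ 0) (hb0 : b0 ≠ 0) (h1 : zz hn a0 0 ∈ Z)
    (h2 : zz hn 0 b0 ∈ Z) (hA : A ∈ US (i0 hn) (i1 hn)) : ∃ g : Sy n F, g * A * g⁻¹ ∈ Z := by
  obtain ⟨a, b, c, rfl⟩ := exists_US (d01 hn) hA
  have key : ∀ a b c : F, a ≠ 0 → ∃ g : Sy n F,
      g * (sx (i0 hn) (i1 hn) c * sy (i0 hn) a * sy (i1 hn) b) * g⁻¹ ∈ Z := by
    intro a b c ha
    obtain ⟨s, hs⟩ := exists_sqrt (F := F) (b / a)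
    have hs' : a * s ^ 2 = b := by rw [pow_two, hs, mul_div_cancel₀ _ ha]
    obtain ⟨g, hg⟩ := typ_zz ha0 hb0 h1 h2 (c + a * s) a
    have hd := d01 hn
    have hd' : Dj (neg (i0 hn)) (i1 hn) := dj_neg_left.2 hd
    set x := sx (neg (i0 hn)) (i1 hn) s with hx
    have r1 : x⁻¹ * sy (i0 hn) a * x = sx (i0 hn) (i1 hn) (a * s) * sy (i1 hn) b * sy (i0 hn) a := by
      have h := sy_rel hd a s
      rw [hs', ← hx] at h
      have c1 : Commute (sx (i0 hn) (i1 hn) (a * s)) x := sx_comm' _ _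
      have c2 : Commute (sy (i1 hn) b) x := sy_sx_comm
        (fun e => hd.1 (OddHalf.SpN.neg_inj.1 e)) (fun e => (ne_neg (i1 hn)) e) _ _
      have c3 : Commute (sx (i0 hn) (i1 hn) (a * s) * sy (i1 hn) b) x := c1.mul_left c2
      calc x⁻¹ * sy (i0 hn) a * x = x⁻¹ * (sy (i0 hn) a * x) := by group
        _ = x⁻¹ * ((sx (i0 hn) (i1 hn) (a * s) * sy (i1 hn) b) * x * sy (i0 hn) a) := by rw [h]; group
        _ = x⁻¹ * (x * (sx (i0 hn) (i1 hn) (a * s) * sy (i1 hn) b) * sy (i0 hn) a) := by rw [c3.eq]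
        _ = _ := by group
    have r2 : x⁻¹ * sx (i0 hn) (i1 hn) c * x = sx (i0 hn) (i1 hn) c := by
      have c1 : Commute (sx (i0 hn) (i1 hn) c) x := sx_comm' _ _
      rw [mul_assoc, c1.eq]; group
    have r3 : x⁻¹ * sy (i1 hn) b * x = sy (i1 hn) b := by
      have c2 : Commute (sy (i1 hn) b) x := sy_sx_comm
        (fun e => hd.1 (OddHalf.SpN.neg_inj.1 e)) (fun e => (ne_neg (i1 hn)) e) _ _
      rw [mul_assoc, c2.eq]; group
    refine ⟨g * x⁻¹, ?_⟩
    have e : g * x⁻¹ * (sx (i0 hn) (i1 hn) c * sy (i0 hn) a * sy (i1 hn) b) * (g * x⁻¹)⁻¹ =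
        g * ((x⁻¹ * sx (i0 hn) (i1 hn) c * x) * (x⁻¹ * sy (i0 hn) a * x) * (x⁻¹ * sy (i1 hn) b * x)) * g⁻¹ := by
      group
    have c4 : Commute (sy (i1 hn) b) (sy (i0 hn) a) := sy_comm (fun e => hd.2 e) _ _
    have e2 : sx (i0 hn) (i1 hn) c * (sx (i0 hn) (i1 hn) (a * s) * sy (i1 hn) b * sy (i0 hn) a) * sy (i1 hn) b =
        zz hn (c + a * s) a := by
      rw [zz_eq, sx_add]
      calc sx (i0 hn) (i1 hn) c * (sx (i0 hn) (i1 hn) (a * s) * sy (i1 hn) b * sy (i0 hn) a) * sy (i1 hn) b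
          = sx (i0 hn) (i1 hn) c * sx (i0 hn) (i1 hn) (a * s) * (sy (i1 hn) b * sy (i0 hn) a) * sy (i1 hn) b := by
            group
        _ = sx (i0 hn) (i1 hn) c * sx (i0 hn) (i1 hn) (a * s) * (sy (i0 hn) a * sy (i1 hn) b) * sy (i1 hn) b := by
            rw [c4.eq]
        _ = sx (i0 hn) (i1 hn) c * sx (i0 hn) (i1 hn) (a * s) * sy (i0 hn) a * (sy (i1 hn) b * sy (i1 hn) b) := by
            group
        _ = _ := by rw [sy_sq, mul_one]
    rw [e, r1, r2, r3, e2]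
    exact hg
  by_cases ha : a = 0
  · by_cases hb : b = 0
    · rw [ha, hb, sy_zero, sy_zero, mul_one, mul_one, ← zz_eq0]
      exact typ_zz ha0 hb0 h1 h2 c 0
    · obtain ⟨g, hg⟩ := key b a c hb
      refine ⟨g * sw (w01 hn), ?_⟩
      have e : g * sw (w01 hn) * (sx (i0 hn) (i1 hn) c * sy (i0 hn) a * sy (i1 hn) b) * (g * sw (w01 hn))⁻¹ =
          g * ((sw (w01 hn) * sx (i0 hn) (i1 hn) c * (sw (w01 hn))⁻¹) *
            ((sw (w01 hn) * sy (i0 hn) a * (sw (w01 hn))⁻¹) * (sw (w01 hn) * sy (i1 hn) b * (sw (w01 hn))⁻¹))) *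
            g⁻¹ := by group
      have c4 : Commute (sy (i1 hn) a) (sy (i0 hn) b) := sy_comm (fun e => (d01 hn).2 e) _ _
      rw [e, sw_sx, sw_sy, sw_sy, w01_0, w01_1, sx_symm, c4.eq, ← mul_assoc (sx (i0 hn) (i1 hn) c)]
      exact hg
  · exact key a b c ha

/-- `U_l` : every element is conjugate into `U_s` -/
theorem typ_UL (hA : A ∈ UL (i0 hn)) : ∃ g : Sy n F, g * A * g⁻¹ ∈ US (i0 hn) (i1 hn) := by
  obtain ⟨b, a, hb, rfl⟩ := exists_uu hA
  by_cases hL : InL (i0 hn) b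
  · obtain ⟨c, rfl⟩ := hL
    refine ⟨1, ?_⟩
    have h := uu_add_p (p := i0 hn) (b := (0 : Ix n → F)) rfl c a
    rw [zero_add] at h
    rw [h, uu_zero, one_mul, inv_one, mul_one]
    exact sy_mem_US a
  · obtain ⟨k, hk, hk'⟩ : ∃ k, k ≠ i0 hn ∧ b k ≠ 0 := by
      by_contra hne
      push Not at hne
      apply hL
      refine ⟨b (i0 hn), ?_⟩
      ext k
      by_cases k0 : k = i0 hn
      · subst k0; simp [be_apply]
      · rw [hne k k0]; simp [be_apply, k0]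
    have hd : Dj k (i0 hn) := ⟨hk, fun e => hk' (by rw [e, hb])⟩
    obtain ⟨w, w0, wk⟩ : ∃ w : W n, w.1 (i0 hn) = i0 hn ∧ w.1 k = neg (i1 hn) := by
      by_cases k1 : k = neg (i1 hn)
      · exact ⟨1, rfl, k1⟩
      by_cases k2 : k = i1 hn
      · refine ⟨⟨sg (i1 hn), sg_mem _⟩, ?_, ?_⟩
        · exact Equiv.swap_apply_of_ne_of_ne (d01 hn).1 (d01 hn).2
        · rw [k2]; exact Equiv.swap_apply_left _ _
      · have hd' : Dj k (neg (i1 hn)) := ⟨k1, by rw [neg_neg]; exact k2⟩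
        exact ⟨⟨tr k (neg (i1 hn)), tr_mem hd'⟩, tr_ne hd.symm.1 (d01 hn).2 hd.symm.2
          (by rw [neg_neg]; exact (d01 hn).1), tr_left hd'⟩
    set b1 := rho n F (sw w) b with hb1
    have e1 : b1 (neg (i0 hn)) = 0 := by
      rw [hb1, rho_sw, W_inv_neg, (W_inv_eq w).2 w0.symm, hb]
    have e2 : b1 (neg (i1 hn)) ≠ 0 := by
      rw [hb1, rho_sw, (W_inv_eq w).2 wk.symm]
      exact hk'
    set t : Sy n F := transv (b1 + be n F (i1 hn)) (b1 (neg (i1 hn)))⁻¹ with ht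
    have h3 : be n F (i1 hn) (neg (i0 hn)) = (0 : F) := (InE.right.prp (d01 hn)).1
    have g1 : rho n F t (be n F (i0 hn)) = be n F (i0 hn) := by
      rw [ht, rho_transv, form_be', Pi.add_apply, e1, h3, add_zero, mul_zero, zero_smul, add_zero]
    have g2 : rho n F t b1 = be n F (i1 hn) := by
      rw [ht, rho_transv, sympForm_add_right, sympForm_self, form_be, zero_add, inv_mul_cancel₀ e2, one_smul]
      ext m
      simp only [Pi.add_apply]
      linear_combination (b1 m) * (two0 : (2 : F) = 0)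
    refine ⟨t * sw w, ?_⟩
    have e : t * sw w * uu (i0 hn) b a * (t * sw w)⁻¹ = t * (sw w * uu (i0 hn) b a * (sw w)⁻¹) * t⁻¹ := by group
    have e3 := uu_q (F := F) (d01 hn) 1 a
    rw [one_smul] at e3
    rw [e, conj_uu_lin (conj_be w0) hb, conj_uu_lin g1 e1, g2, e3]
    exact mul_mem (sx_mem_US (d01 hn) 1) (sy_mem_US a)

theorem typ_UL' {Z : Subgroup (Sy n F)} {a0 b0 : F} (ha0 : a0 ≠ 0) (hb0 : b0 ≠ 0) (h1 : zz hn a0 0 ∈ Z)
    (h2 : zz hn 0 b0 ∈ Z) (hA : A ∈ UL (i0 hn)) : ∃ g : Sy n F, g * A * g⁻¹ ∈ Z := by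
  obtain ⟨g, hg⟩ := typ_UL hA
  obtain ⟨g', hg'⟩ := typ_US ha0 hb0 h1 h2 hg
  refine ⟨g' * g, ?_⟩
  have e : g' * g * A * (g' * g)⁻¹ = g' * (g * A * g⁻¹) * g'⁻¹ := by group
  rwa [e]

end Cfsg.Agent.Omega.All.SpN

end
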