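import Cfsg.Agent.Mrg.Omega.All.SpN.Off
import Cfsg.Agent.Mrg.Omega.All.SpN.Hyp


/-!
# `Sp_2n(q)`, `q` even, `n ≥ 3`: the long side; mixed central elements (WrMain4, `SpK`)

`D0 = C(Y_1)` (`Y_1` the long root group of the highest root), `Q_l = UL = O₂(D0)`.

* `max_UL` : an element of `Up`, all whose conjugates under `D0` are in `Up`, is in `UL`;
* `Hyp0.L_max`, `Hyp0.L_fld`, `Hyp0.L_abel` : `O₂(D0) ≤ UL`; no field automorphisms; `UL` is abelian;
* `Hyp0.mix` : `C_{G₀}(x_12(a) y_1(b)) ≤ N(X_12)`, `a ≠ 0`; `Hyp0.zU` : `Z(S ∩ G₀) = X_12 Y_1`.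
-/

set_option autoImplicit false
set_option linter.unusedSectionVars false
set_option linter.unusedSimpArgs false

namespace Cfsg.Agent.Omega.All.SpN

open Cfsg Cfsg.Agent.ClassicalGeometry.SympBasic Cfsg.Agent.ClassicalGeometry.SympAutSemi
open Cfsg.Agent.OddHalf.SpN Cfsg.Agent.OddHalf.SpN.Out
open scoped Matrix commutatorElement

variable {n : ℕ} {F : Type*} [Field F] [CharP F 2]

section defs

variable (hn : 3 ≤ n)

/-- `C(Y_1)` -/
noncomputable def D0 : Subgroup (Sy n F) := Subgroup.centralizer ((Y1 hn : Subgroup (Sy n F)) : Set (Sy n F))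

variable {hn} {A : Sy n F}

theorem mem_D0 : A ∈ D0 hn ↔ ∀ b, Commute A (zz hn 0 b) := by
  rw [D0, Subgroup.mem_centralizer_iff]
  constructor
  · exact fun h b => (h _ ⟨b, rfl⟩).symm
  · rintro h _ ⟨b, rfl⟩
    exact (h b).symm

theorem zz_eq_sy (b : F) : zz hn 0 b = sy (i0 hn) b := by
  rw [zz_eq, ← zz_eq0, zz_zero, one_mul]

theorem mem_D0_of_fix (h : rho n F A (be n F (i0 hn)) = be n F (i0 hn)) : A ∈ D0 hn :=
  mem_D0.2 fun b => by rw [zz_eq_sy]; exact comm_sy_of_fix h b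

theorem E3_le_D0 : (E3 hn : Subgroup (Sy n F)) ≤ D0 hn := fun _ hA => mem_D0.2 fun b => mem_E3.1 hA 0 b

theorem D0_fixL (hA : A ∈ D0 hn) : FixL (i0 hn) (rho n F A) := by
  refine fixL_of_comm hn (SI.of_rho A) one_ne_zero ?_
  rw [← map_mul, ← map_mul, (mem_D0.1 hA 1).eq]

/-- Weyl elements fixing `1`, moving `2` -/
theorem exists_w1 {k : Ix n} (h0 : Dj k (i0 hn)) : ∃ w : W n, w.1 (i0 hn) = i0 hn ∧ w.1 (i1 hn) = k := by
  by_cases k1 : k = i1 hn
  · exact ⟨1, rfl, k1.symm⟩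
  by_cases k2 : k = neg (i1 hn)
  · refine ⟨⟨sg (i1 hn), sg_mem _⟩, ?_, ?_⟩
    · exact Equiv.swap_apply_of_ne_of_ne (d01 hn).1 (d01 hn).2
    · rw [k2]; exact Equiv.swap_apply_left _ _
  · have hd : Dj k (i1 hn) := ⟨k1, k2⟩
    exact ⟨⟨tr k (i1 hn), tr_mem hd⟩, tr_ne h0.1.symm (d01 hn).1 h0.symm.2 (d01 hn).2, tr_right hd⟩

end defs

section le

variable {hn : 3 ≤ n} [Finite F] {A B : Sy n F}

theorem Up_le_D0 : Up n F ≤ D0 hn := Up_le_E3.trans E3_le_D0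

theorem UL_le_D0 : (UL (i0 hn) : Subgroup (Sy n F)) ≤ D0 hn := UL_le_Up.trans Up_le_D0

theorem comb1 (h0 : ∀ k, Dj k (i0 hn) → InL (i0 hn) (rho n F A (be n F k) - be n F k))
    (h1 : rho n F A (be n F (i0 hn)) = be n F (i0 hn)) {v : Ix n → F} (hv : v (neg (i0 hn)) = 0) :
    InL (i0 hn) (rho n F A v - v) := by
  have e : rho n F A v - v = ∑ k, v k • (rho n F A (be n F k) - be n F k) := by
    have h3 : rho n F A v = ∑ k, v k • rho n F A (be n F k) := by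
      conv_lhs => rw [expand v]
      rw [(SI.of_rho A).sum]
      exact Finset.sum_congr rfl fun k _ => rsmul _ _ _
    conv_lhs => rw [h3, expand v]
    rw [← Finset.sum_sub_distrib]
    refine Finset.sum_congr rfl fun k _ => ?_
    rw [← expand v, smul_sub]
  rw [e]
  have key : ∀ k, InL (i0 hn) (v k • (rho n F A (be n F k) - be n F k)) := by
    intro k
    by_cases k0 : k = i0 hn
    · rw [k0, h1, sub_self, smul_zero]; exact InL.zero
    by_cases k2 : k = neg (i0 hn)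
    · rw [k2, hv, zero_smul]; exact InL.zero
    exact (h0 k ⟨k0, k2⟩).smul _
  let M : AddSubmonoid (Ix n → F) :=
    { carrier := {v | InL (i0 hn) v}, zero_mem' := InL.zero, add_mem' := InL.add }
  exact M.sum_mem fun k _ => key k

/-- (`Q_l`) -/
theorem max_UL (hA : A ∈ Up n F) (h : ∀ w ∈ D0 hn, w⁻¹ * A * w ∈ Up n F) : A ∈ UL (i0 hn) := by
  refine ⟨up_e0 hA, fun v hv => comb1 (fun k hk => ?_) (up_e0 hA) hv⟩
  obtain ⟨w, w0, w1⟩ := exists_w1 hk
  have hw : sw (F := F) w ∈ D0 hn := mem_D0_of_fix (conj_be w0)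
  obtain ⟨μ, h2⟩ := up_e1 (hn := hn) (h _ hw)
  have h3 : rho n F (sw w) (rho n F ((sw w)⁻¹ * A * sw w) (be n F (i1 hn)) - be n F (i1 hn)) =
      μ • be n F (i0 hn) := by rw [h2, rsmul, conj_be w0]
  rw [rsub, conj_be w1, ← rmul] at h3
  have e : sw w * ((sw w)⁻¹ * A * sw w) = A * sw w := by group
  rw [e, rmul, conj_be w1] at h3
  exact ⟨μ, h3⟩

/-- a 2-subgroup normalised by `D0` is in `UL` -/
theorem max_UL' {T : Subgroup (Sy n F)} (hT : IsPGroup 2 T) (hn' : D0 hn ≤ Subgroup.normalizer (T : Set (Sy n F))) :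
    T ≤ UL (i0 hn) := by
  have h1 : T ≤ Up n F := by
    have h2 : Up n F ≤ Subgroup.normalizer (T : Set (Sy n F)) := Up_le_D0.trans hn'
    have h3 : IsPGroup 2 (T ⊔ Up n F : Subgroup (Sy n F)) := IsPGroup.to_sup_of_normal_left' hT isPGroup_Up h2
    exact le_sup_left.trans (Up_max h3 le_sup_right)
  intro A hA
  refine max_UL (h1 hA) fun w hw => h1 ?_
  have h2 := (Subgroup.mem_normalizer_iff.1 (inv_mem (hn' hw)) A).1 hA
  rwa [inv_inv] at h2

/-- an alternating element of `X_12 Y_1` is in `X_12` -/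
theorem mem_X12_of_alt' {A : Sy n F} (hA : A ∈ Zz hn) (h : ∀ v, sympForm n F (rho n F A v) v = 0) :
    A ∈ X12 hn := by
  obtain ⟨a, b, rfl⟩ := hA
  have h1 := h (be n F (Sum.inr (c0 hn)))
  rw [rho_zz, form_be, neg_inr] at h1
  have e := c01 hn
  have h2 : b = 0 := by
    simpa [be_apply, e, e.symm] using h1
  exact ⟨a, by rw [h2]⟩

/-- an alternating element of `U_s` is in `X_12` -/
theorem mem_X12_of_US {A : Sy n F} (hA : A ∈ US (i0 hn) (i1 hn)) (h : ∀ v, sympForm n F (rho n F A v) v = 0) :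
    A ∈ X12 hn := by
  obtain ⟨a, b, c, rfl⟩ := exists_US (d01 hn) hA
  have e01 := (d01 hn).1
  have f1 : neg (i0 hn) ≠ i0 hn := (ne_neg _).symm
  have f4 : neg (i1 hn) ≠ i1 hn := (ne_neg _).symm
  have f3 : neg (i1 hn) ≠ i0 hn := (d01 hn).2.symm
  have f2 : neg (i0 hn) ≠ i1 hn := fun e => (d01 hn).2 (by rw [← e, neg_neg])
  have e1 : rho n F (sx (i0 hn) (i1 hn) c * sy (i0 hn) a * sy (i1 hn) b) (be n F (neg (i0 hn))) =
      be n F (neg (i0 hn)) + a • be n F (i0 hn) + c • be n F (i1 hn) := by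
    rw [rmul, rmul, rho_sy, rho_sy, rho_sx (d01 hn)]
    ext m
    simp [be_apply, e01, e01.symm, f1, f2, f3, f4]
  have e2 : rho n F (sx (i0 hn) (i1 hn) c * sy (i0 hn) a * sy (i1 hn) b) (be n F (neg (i1 hn))) =
      be n F (neg (i1 hn)) + b • be n F (i1 hn) + c • be n F (i0 hn) := by
    rw [rmul, rmul, rho_sy, rho_sy, rho_sx (d01 hn)]
    ext m
    simp [be_apply, e01, e01.symm, f1, f2, f3, f4]
  have g1 := h (be n F (neg (i0 hn)))
  have g2 := h (be n F (neg (i1 hn)))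
  rw [e1, form_be, neg_neg] at g1
  rw [e2, form_be, neg_neg] at g2
  have ha : a = 0 := by simpa [be_apply, e01, e01.symm, f1.symm] using g1
  have hb : b = 0 := by simpa [be_apply, e01, e01.symm, f4.symm] using g2
  refine ⟨c, ?_⟩
  rw [ha, hb, sy_zero, sy_zero, mul_one, mul_one, zz_eq0]

/-- conjugates of `X_12` under elements fixing `E` -/
theorem conj_X12 {A x : Sy n F} (hA : FixE (i0 hn) (i1 hn) (rho n F A)) (hx : x ∈ X12 hn) : A * x * A⁻¹ ∈ X12 hn := by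
  refine mem_X12_of_US (conj_US (SI.of_rho A) hA (X12_le_US hx) (by rw [map_mul, map_mul, map_inv])) fun v => ?_
  obtain ⟨a, rfl⟩ := hx
  have e : rho n F (A * zz hn a 0 * A⁻¹) v = rho n F A (rho n F (zz hn a 0) (rho n F A⁻¹ v)) := by rw [rmul, rmul]
  have e2 : v = rho n F A (rho n F A⁻¹ v) := Eq.symm (rself_inv A v)
  rw [e]
  conv_lhs => rw [e2]
  rw [rinv_self, rform]
  set w := rho n F A⁻¹ v
  have h1 := zz_sub hn a 0 w
  rw [sub_eq_iff_eq_add] at h1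
  rw [h1, sympForm_add_left, sympForm_add_left, sympForm_smul_left, sympForm_smul_left, sympForm_self, form_be',
    form_be']
  linear_combination (a * w (neg (i0 hn)) * w (neg (i1 hn))) * (two0 : (2 : F) = 0)

omit [Finite F] in
theorem inE_of_comm {A : Sy n F} {a b : F} (ha : a ≠ 0) (h : Commute A (zz hn a b)) {v : Ix n → F}
    (hv : InE (i0 hn) (i1 hn) v) : InE (i0 hn) (i1 hn) (rho n F A v) := by
  obtain ⟨x, y, rfl⟩ := hv
  set w : Ix n → F := (a⁻¹ * (x - b * (a⁻¹ * y))) • be n F (neg (i1 hn)) + (a⁻¹ * y) • be n F (neg (i0 hn)) with hw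
  have e : x • be n F (i0 hn) + y • be n F (i1 hn) = rho n F (zz hn a b) w - w := by
    have h01 := (d01 hn).1
    rw [zz_sub, hw]
    simp [be_apply, h01, h01.symm, ha]
  rw [e, rsub, ← rmul, h.eq, rmul, zz_sub]
  exact ⟨_, _, rfl⟩

theorem fixE_of_comm' {A : Sy n F} {a b : F} (ha : a ≠ 0) (h : Commute A (zz hn a b)) :
    FixE (i0 hn) (i1 hn) (rho n F A) :=
  ⟨fun v hv => inE_of_comm ha h hv, fun v hv => by rw [← map_inv]; exact inE_of_comm ha h.inv_left hv⟩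

end le

/-! ### in `G` -/

open Subgroup Cfsg.Agent.ZN

namespace Hyp0

variable {G : Type*} [Group G] [Finite F] {ι : Sy n F →* G} {S : Subgroup G} (H : Hyp0 ι S) {hn : 3 ≤ n}

include H

theorem D_eq (hn : 3 ≤ n) : (D0 hn).map ι = ι.range ⊓ centralizer (((Y1 hn).map ι : Subgroup G) : Set G) := by
  apply le_antisymm
  · rintro _ ⟨A, hA, rfl⟩
    refine ⟨⟨A, rfl⟩, mem_centralizer_iff.2 ?_⟩
    rintro _ ⟨_, ⟨a, rfl⟩, rfl⟩
    rw [← map_mul, ← map_mul, (mem_D0.1 hA a).eq]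
  · rintro _ ⟨⟨A, rfl⟩, h⟩
    refine ⟨A, mem_D0.2 fun a => H.inj ?_, rfl⟩
    rw [map_mul, map_mul]
    exact (mem_centralizer_iff.1 h _ ⟨_, ⟨a, rfl⟩, rfl⟩).symm

theorem S_D (hn : 3 ≤ n) : S ≤ normalizer (((D0 hn).map ι : Subgroup G) : Set G) := by
  rw [H.D_eq hn]
  refine le_norm fun g hg x hx => ⟨(mem_normalizer_iff.1 (H.S_Y hg) x).1 hx.1, mem_centralizer_iff.2 fun y hy => ?_⟩
  have h1 := (mem_normalizer_iff''.1 (H.S_Y1 hn hg) y).1 hy
  have h2 := mem_centralizer_iff.1 hx.2 _ h1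
  calc y * (g * x * g⁻¹) = g * (g⁻¹ * y * g * x) * g⁻¹ := by group
    _ = g * (x * (g⁻¹ * y * g)) * g⁻¹ := by rw [h2]
    _ = _ := by group

theorem L_max (hn : 3 ≤ n) (T : Subgroup G) (hT : IsPGroup 2 T) (hC : T ≤ (D0 hn).map ι)
    (hn' : (D0 hn).map ι ≤ normalizer (T : Set G)) : T ≤ (UL (i0 hn)).map ι := by
  have h1 : IsPGroup 2 (T.comap ι) := hT.comap_of_injective ι H.inj
  have h2 := max_UL' (hn := hn) h1 (norm_comap hn')
  rw [← map_comap (ι := ι) (T := T) (hC.trans (map_le_range _ _))]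
  exact Subgroup.map_mono h2

omit H in
theorem L_abel (hn : 3 ≤ n) :
    (UL (i0 hn)).map ι ≤ centralizer (((UL (i0 hn)).map ι : Subgroup G) : Set G) := by
  rintro _ ⟨A, hA, rfl⟩
  rw [mem_centralizer_iff]
  rintro _ ⟨B, hB, rfl⟩
  rw [← map_mul, ← map_mul, mem_centralizer_iff.1 (Off.UL_le_cen (d01 hn) hA) B hB]

theorem C_Q (hn : 3 ≤ n) : (C0 hn).map ι ≤ normalizer (((QS (i0 hn) (i1 hn)).map ι : Subgroup G) : Set G) := by
  refine le_norm ?_
  rintro _ ⟨A, hA, rfl⟩ _ ⟨B, hB, rfl⟩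
  rw [← map_inv, ← map_mul, ← map_mul]
  exact ⟨_, conj_QS (SI.of_rho A) (C0_fixE hA) hB (by rw [map_mul, map_mul, map_inv]), rfl⟩

/-- `Z(U) = X_12 Y_1` -/
theorem zU (hn : 3 ≤ n) {z : G} (hz : z ∈ S ⊓ ι.range) (hc : S ⊓ ι.range ≤ centralizer ({z} : Set G)) :
    ∃ x ∈ (X12 hn).map ι, ∃ y ∈ (Y1 hn).map ι, z = x * y := by
  rw [H.U_eq] at hz hc
  obtain ⟨A, hA, rfl⟩ := hz
  have h1 : A ∈ Zz hn := by
    rw [mem_Zz_iff]
    intro B hB
    apply H.inj
    rw [map_mul, map_mul]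
    exact mem_centralizer_singleton_iff.1 (hc ⟨B, hB, rfl⟩)
  obtain ⟨a, b, rfl⟩ := h1
  refine ⟨_, ⟨_, ⟨a, rfl⟩, rfl⟩, _, ⟨_, ⟨b, rfl⟩, rfl⟩, ?_⟩
  rw [← map_mul, zz_mul, add_zero, zero_add]

/-- mixed central elements -/
theorem mix (hn : 3 ≤ n) {x y : G} (hx : x ∈ (X12 hn).map ι) (hy : y ∈ (Y1 hn).map ι) (hx1 : x ≠ 1) :
    ι.range ⊓ centralizer ({x * y} : Set G) ≤ normalizer (((X12 hn).map ι : Subgroup G) : Set G) := by
  obtain ⟨_, ⟨a, rfl⟩, rfl⟩ := hx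
  obtain ⟨_, ⟨b, rfl⟩, rfl⟩ := hy
  have ha : a ≠ 0 := by
    rintro rfl
    exact hx1 (by rw [zz_zero, map_one])
  refine le_norm ?_
  rintro _ ⟨⟨A, rfl⟩, hA⟩ _ ⟨B, hB, rfl⟩
  have h1 : Commute A (zz hn a b) := by
    apply H.inj
    have h2 := mem_centralizer_singleton_iff.1 hA
    rw [← map_mul, zz_mul, add_zero, zero_add, ← map_mul, ← map_mul] at h2
    exact h2
  rw [← map_inv, ← map_mul, ← map_mul]
  exact ⟨_, conj_X12 (fixE_of_comm' ha h1) hB, rfl⟩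

/-- no field automorphisms on the long side -/
theorem L_fld (hn : 3 ≤ n) {t : G} (ht : t ∈ S)
    (hc : ∀ c ∈ (D0 hn).map ι, t * c * t⁻¹ * c⁻¹ ∈ (UL (i0 hn)).map ι) : t ∈ (UL (i0 hn)).map ι := by
  obtain ⟨s, φ, d, hs, ha, htri⟩ := H.tri hn ht
  have hL := Tri.fixL hn hs htri
  -- conjugates
  have key : ∀ A ∈ D0 hn, ∀ B, rho n F B = s * rho n F A * s⁻¹ → B * A⁻¹ ∈ UL (i0 hn) := by
    intro A hA B hB
    have h1 := hc _ ⟨A, hA, rfl⟩
    rw [ha.eq hB, ← map_inv, ← map_mul] at h1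
    exact H.mem_map.1 h1
  have hcomm : ∀ A ∈ D0 hn, ∀ x : Ix n → F, x (neg (i0 hn)) = 0 →
      InL (i0 hn) (s (rho n F A x) - rho n F A (s x)) := by
    intro A hA x hx
    obtain ⟨B, hB⟩ := hs.exists_conj A
    have hQ := key A hA B hB
    have h2 : rho n F A (s x) (neg (i0 hn)) = 0 := (D0_fixL hA).perp (SI.of_rho A) (hL.perp hs hx)
    have h3 := hQ.2 _ h2
    rw [← rmul, inv_mul_cancel_right] at h3
    have h4 := conj_apply hB (s x)
    rw [perm_inv_apply_self] at h4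
    rw [← h4]
    exact h3
  have hd : Dj (i1 hn) (neg (i2 hn)) := dj_neg_right.2 (d12 hn)
  have f0 : ∀ a : F, rho n F (sx (i1 hn) (neg (i2 hn)) a) (be n F (i0 hn)) = be n F (i0 hn) := by
    intro a
    rw [rho_sx hd, neg_neg]
    have g1 : be n F (i0 hn) (i2 hn) = (0 : F) := by rw [be_apply, if_neg (d02 hn).1.symm]
    have g2 : be n F (i0 hn) (neg (i1 hn)) = (0 : F) := (InE.left.prp (d01 hn)).2
    rw [g1, g2, mul_zero, zero_smul, zero_smul, add_zero, add_zero]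
  have hx : ∀ a : F, sx (i1 hn) (neg (i2 hn)) a ∈ D0 hn := fun a => mem_D0_of_fix (f0 a)
  have e2 : ∀ a : F, rho n F (sx (i1 hn) (neg (i2 hn)) a) (be n F (i2 hn)) =
      be n F (i2 hn) + a • be n F (i1 hn) := by
    intro a
    rw [rho_sx hd, neg_neg]
    have g1 : be n F (i2 hn) (i2 hn) = (1 : F) := by rw [be_apply, if_pos rfl]
    have g2 : be n F (i2 hn) (neg (i1 hn)) = (0 : F) := (InE.right.prp (d12 hn)).1
    rw [g1, g2, mul_zero, zero_smul, add_zero, mul_one]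
  have e1 : ∀ a : F, rho n F (sx (i1 hn) (neg (i2 hn)) a) (be n F (i1 hn)) = be n F (i1 hn) := by
    intro a
    rw [rho_sx hd, neg_neg]
    have g1 : be n F (i1 hn) (i2 hn) = (0 : F) := by rw [be_apply, if_neg (d12 hn).1.symm]
    have g2 : be n F (i1 hn) (neg (i1 hn)) = (0 : F) := (InE.right.prp (d01 hn)).2
    rw [g1, g2, mul_zero, zero_smul, zero_smul, add_zero, add_zero]
  obtain ⟨μ, s1⟩ := Tri.e1 hn htri
  obtain ⟨α, β, s2⟩ := Tri.e2 hn htri
  rw [sub_eq_iff_eq_add] at s2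
  have hd1 : d (c1 hn) ≠ 0 := (Tri.inv hs htri).2 _
  have hφ : ∀ a, φ a * d (c1 hn) = d (c2 hn) * a := by
    intro a
    obtain ⟨l, h1⟩ := hcomm _ (hx a) (be n F (i2 hn)) (InE.right.prp (d02 hn)).1
    rw [e2, hs.add, hs.smul, s1, s2, radd, radd, rsmul, rsmul, rsmul, e2, e1, f0] at h1
    have h2 := congrFun h1 (i1 hn)
    have g5 : be n F (i1 hn) (i1 hn) = (1 : F) := by rw [be_apply, if_pos rfl]
    have g6 : be n F (i0 hn) (i1 hn) = (0 : F) := by rw [be_apply, if_neg (d01 hn).1.symm]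
    have g7 : be n F (i2 hn) (i1 hn) = (0 : F) := by rw [be_apply, if_neg (d12 hn).1]
    simp only [Pi.add_apply, Pi.sub_apply, Pi.smul_apply, smul_eq_mul, g5, g6, g7, mul_one, mul_zero, zero_add,
      add_zero] at h2
    linear_combination h2
  have h01 : d (c1 hn) = d (c2 hn) := by
    have h1 := hφ 1
    rwa [map_one, one_mul, mul_one] at h1
  have hφ1 : φ = 1 := by
    ext a
    have h1 := hφ a
    rw [← h01, mul_comm] at h1
    exact mul_left_cancel₀ hd1 h1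
  rw [hφ1] at hs
  obtain ⟨A, rfl, hA⟩ := H.exists_iota hs ha
  refine ⟨A, max_UL (H.iota_mem.1 ht) fun w hw => ?_, rfl⟩
  obtain ⟨B, hB⟩ := hs.exists_conj w⁻¹
  have h1 := key _ (inv_mem hw) B hB
  have e : B = A * w⁻¹ * A⁻¹ := rho_injective (by rw [hB, ← hA]; simp only [map_mul, map_inv])
  rw [e, inv_inv] at h1
  have h2 := inv_mem (mul_mem (inv_mem (H.iota_mem.1 ht)) (UL_le_Up h1))
  have e2 : (A⁻¹ * (A * w⁻¹ * A⁻¹ * w))⁻¹ = w⁻¹ * A * w := by group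
  rwa [e2] at h2

end Hyp0

end Cfsg.Agent.Omega.All.SpN
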