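import Cfsg.Agent.Mrg.Omega.All.Basic
import Cfsg.Agent.Omega.All.SpN.Defs
import Cfsg.Agent.Omega.All.SpN.OffCore


/-!
# THEOREM F1-h1 (OMEGA #14479), `Sp_2n(q)`: the fields of `Offer` (helper165)

`p = 1`, `q = 2`, inside `Sp_2n(F)`, `n ≥ 3`, `char F = 2`:

* `offer` : `Offer Up QSL UL (UL ⊓ QS) X12 US`;
* `lcs` : `⁅⁅QSL, QSL⁆, QSL⁆ = X12`;
* `cen` : `QSL ⊓ C(UL) ≤ UL`.
-/

set_option autoImplicit false
set_option linter.unusedSectionVars false

namespace Cfsg.Agent.Omega.All.SpN.Off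

open Cfsg Cfsg.Agent.ClassicalGeometry.SympBasic Cfsg.Agent.ClassicalGeometry.SympAutSemi
open Cfsg.Agent.OddHalf.SpN Cfsg.Agent.OddHalf.SpN.Out
open Cfsg.Agent.Omega.All.HOne (Offer)
open Cfsg.Agent.Omega.All.SpN (QS US UL QSL InE Prp InL mem_QS mem_US mem_UL mem_QSL)
open scoped Matrix commutatorElement

variable {n : ℕ} {F : Type*} [Field F] [CharP F 2]

local notation "B" => sympForm n F

theorem hyp {p q : Ix n} (h : Dj p q) : Hyp (be n F p) (be n F q) (be n F (neg p)) (be n F (neg q)) := by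
  have h1 : neg q ≠ p := fun e => h.2 e.symm
  have h2 : neg p ≠ q := fun e => h.2 (by rw [← e, neg_neg])
  constructor
  · rw [form_be, be_apply, if_neg h1]
  · rw [form_be, neg_neg, be_apply, if_pos rfl]
  · rw [form_be, neg_neg, be_apply, if_neg h.1]
  · rw [form_be, neg_neg, be_apply, if_neg h.1.symm]
  · rw [form_be, neg_neg, be_apply, if_pos rfl]

theorem prp_iff {p q : Ix n} {v : Ix n → F} : Prp p q v ↔ B v (be n F p) = 0 ∧ B v (be n F q) = 0 := by
  rw [form_be, form_be]; rfl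

section groups

variable [Finite F]

theorem mem_UL_iff {p : Ix n} {A : Sy n F} : A ∈ UL p ↔ IsUL (be n F p) A := by
  rw [mem_UL]
  refine and_congr Iff.rfl (forall_congr' fun v => ?_)
  rw [form_be]; rfl

theorem mem_QSL_iff {p q : Ix n} {A : Sy n F} : A ∈ QSL p q ↔ IsQ (be n F p) (be n F q) A := by
  rw [mem_QSL]
  refine and_congr Iff.rfl (and_congr Iff.rfl ⟨fun h v h1 h2 => h v (prp_iff.2 ⟨h1, h2⟩), fun h v hv => ?_⟩)
  exact h v (prp_iff.1 hv).1 (prp_iff.1 hv).2

theorem mem_J_iff {p q : Ix n} {A : Sy n F} :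
    A ∈ UL p ⊓ QS p q ↔ IsUL (be n F p) A ∧ rho n F A (be n F q) = be n F q := by
  rw [Subgroup.mem_inf, mem_UL_iff, mem_QS]
  constructor
  · exact fun h => ⟨h.1, h.2.2.1⟩
  · refine fun h => ⟨h.1, h.1.1, h.2, fun v hv => ?_⟩
    obtain ⟨a, ha⟩ := h.1.2 v (prp_iff.1 hv).1
    exact ⟨a, 0, by rw [ha, zero_smul, add_zero]⟩

variable {p q : Ix n}

/-- elements of `C(J)` -/
theorem of_cJ (hd : Dj p q) {A : Sy n F} (hA : A ∈ QSL p q)
    (h : A ∈ Subgroup.centralizer ((UL p ⊓ QS p q : Subgroup (Sy n F)) : Set (Sy n F))) (b : Ix n → F)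
    (h1 : B b (be n F p) = 0) (h2 : B b (be n F q) = 0) : ∃ a : F, rho n F A b - b = a • be n F p := by
  have hb : ul (be n F p) b 0 ∈ UL p ⊓ QS p q := by
    rw [mem_J_iff]
    refine ⟨isUL_ul h1 0, ?_⟩
    rw [rho_ul h1, fs (be n F q) (be n F p), (hyp (F := F) hd).pq, fs (be n F q) b, h2, zero_smul, mul_zero, add_zero,
      add_zero, zero_smul, add_zero]
  have := (Subgroup.mem_centralizer_iff.1 h) _ hb
  exact (comm_ul_iff (hyp hd) (mem_QSL_iff.1 hA).1 h1 0).1 this.symm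

/-- `C_{Q_s U_l}(U_l) ≤ U_l` -/
theorem cen (hd : Dj p q) : QSL p q ⊓ Subgroup.centralizer ((UL p : Subgroup (Sy n F)) : Set (Sy n F)) ≤ UL p := by
  rintro A ⟨hA, hC⟩
  rw [mem_UL_iff]
  refine IsUL.of_comm (hyp hd) (mem_QSL_iff.1 hA).1 fun b hb => ?_
  exact (Subgroup.mem_centralizer_iff.1 hC _ (mem_UL_iff.2 (isUL_ul hb 0))).symm

/-- `U_l` is abelian -/
theorem UL_le_cen (hd : Dj p q) : (UL p : Subgroup (Sy n F)) ≤ Subgroup.centralizer ((UL p : Subgroup (Sy n F)) : Set (Sy n F)) := by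
  intro A hA
  rw [Subgroup.mem_centralizer_iff]
  intro C hC
  exact IsUL.comm (hyp hd) (mem_UL_iff.1 hC) (mem_UL_iff.1 hA)

theorem UL_el (hd : Dj p q) : IsElementaryAbelian 2 (UL p : Subgroup (Sy n F)) := by
  refine ⟨⟨⟨fun a b => Subtype.ext ?_⟩⟩, fun a ha => ?_⟩
  · exact IsUL.comm (hyp hd) (mem_UL_iff.1 a.2) (mem_UL_iff.1 b.2)
  · rw [pow_two]
    exact IsUL.sq (hyp hd) (mem_UL_iff.1 ha)

end groups

section std

variable [Finite F] (hn : 3 ≤ n)

theorem mem_X12_iff {A : Sy n F} : A ∈ X12 hn ↔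
    ∃ t : F, A = ul (be n F (Sum.inl (c0 hn))) (t • be n F (Sum.inl (c1 hn))) 0 := by
  have h0 : ∀ t : F, B (t • be n F (Sum.inl (c1 hn))) (be n F (Sum.inl (c0 hn))) = 0 := by
    intro t
    rw [sympForm_smul_left, fs (be n F (Sum.inl (c1 hn))), (hyp (F := F) (dj_ll (c01 hn))).pq, mul_zero]
  rw [mem_X12]
  refine exists_congr fun t => ?_
  have e : zz hn t 0 = ul (be n F (Sum.inl (c0 hn))) (t • be n F (Sum.inl (c1 hn))) 0 := by
    apply rext
    intro v
    rw [rho_zz, rho_ul (h0 t), form_be, sympForm_smul_right, form_be, smul_smul]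
    simp only [neg_inl]
    simp only [zero_mul, add_zero]
    rw [mul_comm (v (Sum.inr (c0 hn)))]
    abel
  rw [e]

/-- elements of `Up` on the flag -/
theorem up_flag {A : Sy n F} (hA : A ∈ Up n F) : rho n F A (be n F (Sum.inl (c0 hn))) = be n F (Sum.inl (c0 hn)) ∧
    ∃ a : F, rho n F A (be n F (Sum.inl (c1 hn))) - be n F (Sum.inl (c1 hn)) = a • be n F (Sum.inl (c0 hn)) := by
  constructor
  · have h1 := up_sub hA (i := 0) (v := be n F (Sum.inl (c0 hn))) (fl_be (c0 hn))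
    exact sub_eq_zero.1 (fl_zero h1)
  · have h1 := up_sub hA (i := 1) (v := be n F (Sum.inl (c1 hn))) (fl_be (c1 hn))
    refine ⟨(rho n F A (be n F (Sum.inl (c1 hn))) - be n F (Sum.inl (c1 hn))) (Sum.inl (c0 hn)), ?_⟩
    ext k
    rw [Pi.smul_apply, smul_eq_mul, be_apply]
    rcases k with k | k
    · by_cases hk : k = c0 hn
      · subst hk; rw [if_pos rfl, mul_one]
      · have hk' : (Sum.inl k : Ix n) ≠ Sum.inl (c0 hn) := fun e => hk (Sum.inl_injective e)
        rw [if_neg hk', mul_zero]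
        apply h1.2 k
        by_contra hlt
        apply hk
        apply Fin.ext
        show k.1 = 0
        omega
    · rw [if_neg (by simp), mul_zero]
      exact h1.1 k

theorem QSL_le_Up : QSL (Sum.inl (c0 hn)) (Sum.inl (c1 hn)) ≤ Up n F := by
  intro A hA
  obtain ⟨h1, ⟨a, h2⟩, h3⟩ := hA
  -- the value on the flag
  have key : ∀ i : Fin n, rho n F A (be n F (Sum.inl i)) = be n F (Sum.inl i) ∨
      ∃ a b : F, c0 hn < i ∧ rho n F A (be n F (Sum.inl i)) = be n F (Sum.inl i) + a • be n F (Sum.inl (c0 hn)) +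
        b • be n F (Sum.inl (c1 hn)) ∧ (b ≠ 0 → c1 hn < i) := by
    intro i
    by_cases hi0 : i = c0 hn
    · left; rw [hi0]; exact h1
    have hlt : c0 hn < i := by
      show 0 < i.1
      by_contra h
      exact hi0 (Fin.ext (show i.1 = 0 by omega))
    by_cases hi1 : i = c1 hn
    · right
      refine ⟨a, 0, hlt, ?_, fun h => absurd rfl h⟩
      rw [hi1, zero_smul, add_zero, ← h2]; abel
    · right
      have hlt1 : c1 hn < i := by
        show 1 < i.1
        have g0 : i.1 ≠ 1 := fun e => hi1 (Fin.ext e)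
        have g1 : 0 < i.1 := hlt
        omega
      have hP : Prp (Sum.inl (c0 hn)) (Sum.inl (c1 hn)) (be n F (Sum.inl i)) := by
        constructor
        · rw [neg_inl, be_apply, if_neg (by simp)]
        · rw [neg_inl, be_apply, if_neg (by simp)]
      obtain ⟨c, d, hcd⟩ := h3 _ hP
      refine ⟨c, d, hlt, ?_, fun _ => hlt1⟩
      rw [add_assoc, ← hcd]; abel
  refine ⟨fun i => ?_, fun i j hij => ?_, fun i j => ?_⟩
  · rcases key i with h | ⟨c, d, hi, h, hd⟩
    · rw [h, be_apply, if_pos rfl]; rfl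
    · rw [h]
      have e1 : (Sum.inl i : Ix n) ≠ Sum.inl (c0 hn) := fun e => hi.ne' (Sum.inl_injective e)
      by_cases hd0 : d = 0
      · simp [be_apply, e1, hd0]
      · have e2 : (Sum.inl i : Ix n) ≠ Sum.inl (c1 hn) := fun e => (hd hd0).ne' (Sum.inl_injective e)
        simp [be_apply, e1, e2]
  · rcases key i with h | ⟨c, d, hi, h, hd⟩
    · rw [h, be_apply, if_neg]
      intro h
      exact hij.ne' (Sum.inl_injective h)
    · rw [h]
      have e0 : (Sum.inl j : Ix n) ≠ Sum.inl i := fun e => hij.ne' (Sum.inl_injective e)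
      have e1 : (Sum.inl j : Ix n) ≠ Sum.inl (c0 hn) := fun e => (hi.trans hij).ne' (Sum.inl_injective e)
      by_cases hd0 : d = 0
      · simp [be_apply, e0, e1, hd0]
      · have e2 : (Sum.inl j : Ix n) ≠ Sum.inl (c1 hn) := fun e => ((hd hd0).trans hij).ne' (Sum.inl_injective e)
        simp [be_apply, e0, e1, e2]
  · rcases key i with h | ⟨c, d, hi, h, hd⟩
    · rw [h, be_apply, if_neg (by simp)]
    · rw [h]
      simp [be_apply]

/-- the lower central series of `Q_s U_l` -/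
theorem lcs : ⁅⁅(QSL (Sum.inl (c0 hn)) (Sum.inl (c1 hn)) : Subgroup (Sy n F)),
    (QSL (Sum.inl (c0 hn)) (Sum.inl (c1 hn)) : Subgroup (Sy n F))⁆,
    (QSL (Sum.inl (c0 hn)) (Sum.inl (c1 hn)) : Subgroup (Sy n F))⁆ = (X12 hn : Subgroup (Sy n F)) := by
  have hd : Dj (Sum.inl (c0 hn) : Ix n) (Sum.inl (c1 hn)) := dj_ll (c01 hn)
  apply le_antisymm
  · have h1 : ⁅(QSL (Sum.inl (c0 hn)) (Sum.inl (c1 hn)) : Subgroup (Sy n F)),
        (QSL (Sum.inl (c0 hn)) (Sum.inl (c1 hn)) : Subgroup (Sy n F))⁆ ≤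
        UL (Sum.inl (c0 hn)) ⊓ QS (Sum.inl (c0 hn)) (Sum.inl (c1 hn)) := by
      rw [Subgroup.commutator_le]
      intro A hA C hC
      rw [commutatorElement_def, mem_J_iff]
      exact IsQ.comm_isUL (hyp hd) (mem_QSL_iff.1 hA) (mem_QSL_iff.1 hC)
    refine (Subgroup.commutator_mono h1 le_rfl).trans ?_
    rw [Subgroup.commutator_le]
    intro A hA C hC
    rw [commutatorElement_def, mem_X12_iff]
    rw [mem_J_iff] at hA
    exact IsQ.comm_mem (hyp hd) hA.1 hA.2 (mem_QSL_iff.1 hC)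
  · rintro A ⟨a, rfl⟩
    -- the third index
    have h02 : c0 hn ≠ c2 hn := by simp [c0, c2]
    have h12 : c1 hn ≠ c2 hn := by simp [c1, c2]
    have d01 : Dj (Sum.inl (c0 hn) : Ix n) (Sum.inr (c1 hn)) := dj_lr (c01 hn)
    have d02 : Dj (Sum.inl (c0 hn) : Ix n) (Sum.inl (c2 hn)) := dj_ll h02
    have d12 : Dj (Sum.inl (c1 hn) : Ix n) (Sum.inl (c2 hn)) := dj_ll h12
    have key : ∀ (i j k : Ix n) (hij : Dj i j) (hjk : Dj j k) (hik : Dj i k) (a b : F),
        ⁅sx i j a, sx (neg j) k b⁆ = sx i k (a * b) := by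
      intro i j k hij hjk hik a b
      rw [commutatorElement_def, sx_rel hij hjk hik]
      group
    -- membership of the root elements
    have m1 : sx (Sum.inl (c0 hn)) (Sum.inr (c1 hn)) (1 : F) ∈ QSL (Sum.inl (c0 hn)) (Sum.inl (c1 hn)) := by
      apply UL_le_QSL hd
      rw [mem_UL]
      constructor
      · rw [rho_sx d01]
        simp [be_apply, neg_inl, neg_inr, (c01 hn).symm]
      · intro v hv
        refine ⟨v (Sum.inl (c1 hn)), ?_⟩
        rw [rho_sx d01, hv, neg_inr]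
        simp
    have m2 : ∀ b : F, sx (Sum.inl (c1 hn)) (Sum.inl (c2 hn)) b ∈ QSL (Sum.inl (c0 hn)) (Sum.inl (c1 hn)) := by
      intro b
      apply QS_le_QSL
      rw [mem_QS]
      refine ⟨?_, ?_, fun v hv => ⟨0, b * v (Sum.inr (c2 hn)), ?_⟩⟩
      · rw [rho_sx d12]
        simp [be_apply]
      · rw [rho_sx d12]
        simp [be_apply]
      · have := hv.2
        rw [neg_inl] at this
        rw [rho_sx d12, neg_inl, neg_inl, this]
        simp
    have m3 : ∀ b : F, sx (Sum.inr (c2 hn)) (Sum.inl (c1 hn)) b ∈ QSL (Sum.inl (c0 hn)) (Sum.inl (c1 hn)) := by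
      intro b
      have d : Dj (Sum.inr (c2 hn) : Ix n) (Sum.inl (c1 hn)) := (dj_lr h12).symm
      apply QS_le_QSL
      rw [mem_QS]
      refine ⟨?_, ?_, fun v hv => ⟨0, b * v (Sum.inl (c2 hn)), ?_⟩⟩
      · rw [rho_sx d]
        simp [be_apply, h02.symm]
      · rw [rho_sx d]
        simp [be_apply, h12.symm]
      · have := hv.2
        rw [neg_inl] at this
        rw [rho_sx d, neg_inl, neg_inr, this]
        simp
    have e1 := key (Sum.inl (c0 hn)) (Sum.inr (c1 hn)) (Sum.inl (c2 hn)) d01 (dj_lr h12.symm).symm d02 1 1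
    have e2 := key (Sum.inl (c0 hn)) (Sum.inl (c2 hn)) (Sum.inl (c1 hn)) d02 d12.symm hd 1 a
    rw [neg_inr] at e1
    rw [neg_inl, one_mul] at e2
    have e3 : zz hn a 0 = sx (Sum.inl (c0 hn)) (Sum.inl (c1 hn)) a := by rw [zz, sy_zero, mul_one]
    rw [e3, ← e2]
    refine Subgroup.commutator_mem_commutator ?_ (m3 a)
    rw [← mul_one (1 : F), ← e1]
    exact Subgroup.commutator_mem_commutator m1 (m2 1)

end std

/-! ### counting -/

section card

variable [Finite F] {p q : Ix n}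

omit [CharP F 2] in
/-- the orthogonal space -/
def orth (D : Submodule F (Ix n → F)) : Submodule F (Ix n → F) :=
  LinearMap.BilinForm.orthogonal (sympBilin n F) D

theorem mem_orth {D : Submodule F (Ix n → F)} {x : Ix n → F} : x ∈ orth D ↔ ∀ d ∈ D, B d x = 0 := Iff.rfl

omit [CharP F 2] in
theorem card_orth (D : Submodule F (Ix n → F)) : Nat.card D * Nat.card (orth D) = Nat.card (Ix n → F) := by
  have h1 : Module.finrank F D + Module.finrank F (orth D) = Module.finrank F (Ix n → F) := by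
    have h := LinearMap.BilinForm.finrank_orthogonal (sympBilin_nondegenerate (F := F) (m := n)) D
    have h2 := Submodule.finrank_le D
    have h3 : Module.finrank F (orth D) = Module.finrank F (Ix n → F) - Module.finrank F D := h
    omega
  rw [Module.natCard_eq_pow_finrank (K := F) (V := D), Module.natCard_eq_pow_finrank (K := F) (V := orth D),
    Module.natCard_eq_pow_finrank (K := F) (V := Ix n → F), ← pow_add, h1]

/-- a map constant only on the cosets of `K` -/
theorem card_le_of_fiber {V K : Subgroup (Sy n F)} (hK : K ≤ V) {X : Type*} [Finite X] (f : V → X)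
    (h : ∀ v v' : V, f v = f v' → (v : Sy n F)⁻¹ * v' ∈ K) : Nat.card V ≤ Nat.card K * Nat.card X := by
  have h1 : Nat.card V = Nat.card (V ⧸ K.subgroupOf V) * Nat.card (K.subgroupOf V) :=
    Subgroup.card_eq_card_quotient_mul_card_subgroup _
  have h2 : Nat.card (K.subgroupOf V) = Nat.card K := Nat.card_congr (Subgroup.subgroupOfEquivOfLe hK).toEquiv
  have h3 : Nat.card (V ⧸ K.subgroupOf V) ≤ Nat.card X := by
    apply Nat.card_le_card_of_injective (fun c : V ⧸ K.subgroupOf V => f (Quotient.out c))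
    intro c d hcd
    have h4 := h _ _ hcd
    have h5 : (Quotient.out c)⁻¹ * Quotient.out d ∈ K.subgroupOf V := Subgroup.mem_subgroupOf.2 h4
    have h6 := QuotientGroup.eq.2 h5
    rwa [QuotientGroup.out_eq', QuotientGroup.out_eq'] at h6
  rw [h1, h2, mul_comm]
  exact Nat.mul_le_mul_left _ h3

theorem bb_inj (hd : Dj p q) {A C : Sy n F} (hA : A ∈ UL p) (hC : C ∈ UL p)
    (h : bb (be n F (neg p)) A = bb (be n F (neg p)) C) : A = C := by
  rw [(mem_UL_iff.1 hA).eq (hyp hd), (mem_UL_iff.1 hC).eq (hyp hd), h]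

/-- `|p^⊥| ≤ |U_l|` -/
theorem card_perp_le (hd : Dj p q) : Nat.card (orth (Submodule.span F {be n F p})) ≤ Nat.card (UL p : Subgroup (Sy n F)) := by
  have h0 : ∀ b : orth (Submodule.span F {be n F p}), B (b : Ix n → F) (be n F p) = 0 := fun b => by
    rw [fs]
    exact mem_orth.1 b.2 _ (Submodule.mem_span_singleton_self _)
  have H := hyp (F := F) hd
  apply Nat.card_le_card_of_injective (fun b : orth (Submodule.span F {be n F p}) =>
    (⟨ul (be n F p) b (B (be n F (neg p)) b), mem_UL_iff.2 (isUL_ul (h0 b) _)⟩ : (UL p : Subgroup (Sy n F))))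
  intro b b' hbb
  have h1 := congrArg (fun A : (UL p : Subgroup (Sy n F)) => bb (be n F (neg p)) A.1) hbb
  simp only [bb_ul H (h0 _), CharTwo.add_self_eq_zero, zero_smul, add_zero] at h1
  exact Subtype.ext h1

/-- **off** -/
theorem off (hd : Dj p q) (V : Subgroup (Sy n F)) (hV : V ≤ QSL p q) :
    Nat.card V * Nat.card ↥(UL p ⊓ Subgroup.centralizer (V : Set (Sy n F))) ≤
      Nat.card (UL p : Subgroup (Sy n F)) *
        Nat.card ↥(V ⊓ Subgroup.centralizer ((UL p : Subgroup (Sy n F)) : Set (Sy n F))) := by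
  have H := hyp (F := F) hd
  by_cases hc : V ≤ Subgroup.centralizer ((UL p : Subgroup (Sy n F)) : Set (Sy n F))
  · rw [inf_eq_left.2 hc, mul_comm]
    exact Nat.mul_le_mul_right _ (Subgroup.card_le_of_le inf_le_left)
  obtain ⟨v0, hv0, hv0'⟩ := SetLike.not_le_iff_exists.1 hc
  have hv0n : ¬ IsUL (be n F p) v0 := fun h => hv0' (UL_le_cen hd (mem_UL_iff.2 h))
  set w1 : Ix n → F := be n F (neg p) with hw1
  set w2 : Ix n → F := be n F (neg q) with hw2
  have hw2p : B w2 (be n F p) = 0 := by rw [fs]; exact H.pw2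
  have hw2q : B w2 (be n F q) = 1 := by rw [fs]; exact H.qw2
  let D : Submodule F (Ix n → F) :=
    Submodule.span F ({be n F p, be n F q} ∪ (fun A : Sy n F => rho n F A w2 - w2) '' (V : Set (Sy n F)))
  have hDp : be n F p ∈ D := Submodule.subset_span (Or.inl (Or.inl rfl))
  have hDv : ∀ A ∈ V, rho n F A w2 - w2 ∈ D := fun A hA => Submodule.subset_span (Or.inr ⟨A, hA, rfl⟩)
  -- (a)
  have ha : Nat.card ↥(UL p ⊓ Subgroup.centralizer (V : Set (Sy n F))) ≤ Nat.card (orth D) := by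
    have key : ∀ u ∈ UL p ⊓ Subgroup.centralizer (V : Set (Sy n F)), bb w1 u ∈ orth D := by
      rintro u ⟨hu, huC⟩
      have hu' := mem_UL_iff.1 hu
      have hb := bb_perp (w1 := w1) hu'.1
      have hfix : ∀ A ∈ V, ∃ a : F, rho n F A (bb w1 u) - bb w1 u = a • be n F p := by
        intro A hA
        have h1 : A * u = u * A := Subgroup.mem_centralizer_iff.1 huC A hA
        have h2 := hu'.eq H
        rw [h2] at h1
        exact (comm_ul_iff H (mem_QSL_iff.1 (hV hA)).1 hb _).1 h1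
      have hbq : B (bb w1 u) (be n F q) = 0 := by
        by_contra hne
        exact hv0n ((mem_QSL_iff.1 (hV hv0)).isUL_of_fix hb hne (hfix v0 hv0))
      have hle : D ≤ orth (Submodule.span F {bb w1 u}) := by
        refine Submodule.span_le.2 ?_
        rintro y ((rfl | rfl) | ⟨A, hA, rfl⟩)
        all_goals
          rw [SetLike.mem_coe, mem_orth]
          intro d hd'
          obtain ⟨c, rfl⟩ := Submodule.mem_span_singleton.1 hd'
          rw [sympForm_smul_left]
        · rw [hb, mul_zero]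
        · rw [hbq, mul_zero]
        · have hAQ := mem_QSL_iff.1 (hV hA)
          obtain ⟨a, ha⟩ := hfix A hA
          have h3 := hAQ.coord H hb hbq
          rw [ha, sympForm_smul_left, H.pw2, mul_zero] at h3
          show c * B (bb w1 u) (rho n F A w2 - w2) = 0
          rw [← h3, mul_zero]
      rw [mem_orth]
      intro d hd'
      rw [fs]
      exact mem_orth.1 (hle hd') _ (Submodule.mem_span_singleton_self _)
    apply Nat.card_le_card_of_injective (fun u : ↥(UL p ⊓ Subgroup.centralizer (V : Set (Sy n F))) =>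
      (⟨bb w1 u, key u u.2⟩ : orth D))
    intro u u' huu
    exact Subtype.ext (bb_inj hd u.2.1 u'.2.1 (congrArg Subtype.val huu))
  -- (b)
  let D0 : Submodule F (Ix n → F) := D ⊓ orth (Submodule.span F {w1})
  have hw1p : B w1 (be n F p) = 1 := by rw [fs]; exact H.pw1
  have hb : Nat.card V ≤
      Nat.card ↥(V ⊓ Subgroup.centralizer ((UL p : Subgroup (Sy n F)) : Set (Sy n F))) * Nat.card D0 := by
    have hm : ∀ A ∈ V, (rho n F A w2 - w2) - B w1 (rho n F A w2 - w2) • be n F p ∈ D0 := by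
      intro A hA
      refine ⟨Submodule.sub_mem _ (hDv A hA) (Submodule.smul_mem _ _ hDp), ?_⟩
      rw [SetLike.mem_coe, mem_orth]
      intro d hd'
      obtain ⟨c, rfl⟩ := Submodule.mem_span_singleton.1 hd'
      rw [sympForm_smul_left, sympForm_sub_right, sympForm_smul_right, hw1p, mul_one, sub_self, mul_zero]
    refine card_le_of_fiber inf_le_left (fun A : V => (⟨_, hm A A.2⟩ : D0)) fun v v' hvv => ?_
    refine Subgroup.mem_inf.2 ⟨V.mul_mem (V.inv_mem v.2) v'.2, ?_⟩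
    have h1 : (rho n F (v : Sy n F) w2 - w2) - B w1 (rho n F (v : Sy n F) w2 - w2) • be n F p =
        (rho n F (v' : Sy n F) w2 - w2) - B w1 (rho n F (v' : Sy n F) w2 - w2) • be n F p :=
      congrArg Subtype.val hvv
    have hQ : (v : Sy n F)⁻¹ * v' ∈ QSL p q := mul_mem (inv_mem (hV v.2)) (hV v'.2)
    apply UL_le_cen hd
    rw [mem_UL_iff]
    refine (mem_QSL_iff.1 hQ).isUL_of_fix (b := w2) hw2p (by rw [hw2q]; exact one_ne_zero)
      ⟨B w1 (rho n F (v' : Sy n F) w2 - w2) - B w1 (rho n F (v : Sy n F) w2 - w2), ?_⟩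
    have h2 : rho n F (v' : Sy n F) w2 = rho n F (v : Sy n F) w2 +
        (B w1 (rho n F (v' : Sy n F) w2 - w2) - B w1 (rho n F (v : Sy n F) w2 - w2)) • be n F p := by
      rw [sub_smul]
      rw [← sub_eq_zero] at h1 ⊢
      rw [← neg_eq_zero, ← h1]
      abel
    have hvi : (v : Sy n F)⁻¹ ∈ QSL p q := inv_mem (hV v.2)
    have h3 : rho n F (v : Sy n F)⁻¹ (be n F p) = be n F p := (mem_QSL_iff.1 hvi).1
    rw [rmul]
    conv_lhs => rw [h2, radd, rsmul, rinv', h3]
    abel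
  -- (c)
  have hcc : Nat.card F * Nat.card D0 ≤ Nat.card D := by
    rw [← Nat.card_prod]
    apply Nat.card_le_card_of_injective (fun x : F × D0 =>
      (⟨x.1 • be n F p + x.2, Submodule.add_mem _ (Submodule.smul_mem _ _ hDp) x.2.2.1⟩ : D))
    rintro ⟨a, d⟩ ⟨a', d'⟩ h
    have h1 : a • be n F p + (d : Ix n → F) = a' • be n F p + d' := congrArg Subtype.val h
    have h2 : ∀ e : D0, B w1 (e : Ix n → F) = 0 := fun e =>
      mem_orth.1 e.2.2 _ (Submodule.mem_span_singleton_self _)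
    have h3 := congrArg (fun y => B w1 y) h1
    simp only [sympForm_add_right, sympForm_smul_right, hw1p, h2, mul_one, add_zero] at h3
    subst h3
    exact Prod.ext rfl (Subtype.ext (add_left_cancel h1))
  -- the orders
  have h1 := card_orth (F := F) (n := n) D
  have h2 := card_orth (F := F) (n := n) (Submodule.span F {be n F p})
  have h3 : Nat.card (Submodule.span F {be n F p}) = Nat.card F := by
    rw [Module.natCard_eq_pow_finrank (K := F), finrank_span_singleton (be_ne p), pow_one]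
  have h4 := card_perp_le (F := F) hd
  have hq : 0 < Nat.card F := Nat.card_pos
  apply Nat.le_of_mul_le_mul_left _ hq
  set K := Nat.card ↥(V ⊓ Subgroup.centralizer ((UL p : Subgroup (Sy n F)) : Set (Sy n F)))
  calc Nat.card F * (Nat.card V * Nat.card ↥(UL p ⊓ Subgroup.centralizer (V : Set (Sy n F)))) ≤
      Nat.card F * ((K * Nat.card D0) * Nat.card (orth D)) :=
        Nat.mul_le_mul_left _ (Nat.mul_le_mul hb ha)
    _ = K * ((Nat.card F * Nat.card D0) * Nat.card (orth D)) := by ring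
    _ ≤ K * (Nat.card D * Nat.card (orth D)) := Nat.mul_le_mul_left _ (Nat.mul_le_mul_right _ hcc)
    _ = K * (Nat.card F * Nat.card (orth (Submodule.span F {be n F p}))) := by rw [h1, ← h2, h3]
    _ ≤ K * (Nat.card F * Nat.card (UL p : Subgroup (Sy n F))) :=
        Nat.mul_le_mul_left _ (Nat.mul_le_mul_left _ h4)
    _ = _ := by ring

end card

/-! ### the structure -/

section final

variable [Finite F] (hn : 3 ≤ n)

/-- `|X_s| |J| ≤ |U_l|` -/
theorem card_J : Nat.card (X12 hn : Subgroup (Sy n F)) *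
    Nat.card ↥(UL (Sum.inl (c0 hn)) ⊓ QS (Sum.inl (c0 hn)) (Sum.inl (c1 hn)) : Subgroup (Sy n F)) ≤
      Nat.card (UL (Sum.inl (c0 hn)) : Subgroup (Sy n F)) := by
  have hd : Dj (Sum.inl (c0 hn) : Ix n) (Sum.inl (c1 hn)) := dj_ll (c01 hn)
  have H := hyp (F := F) hd
  have h1 : Nat.card (X12 hn : Subgroup (Sy n F)) ≤ Nat.card F := by
    apply Nat.card_le_card_of_surjective (fun t : F => (⟨zz hn t 0, t, rfl⟩ : (X12 hn : Subgroup (Sy n F))))
    rintro ⟨A, t, rfl⟩
    exact ⟨t, rfl⟩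
  refine (Nat.mul_le_mul_right _ h1).trans ?_
  rw [← Nat.card_prod]
  have h0 : ∀ a : F, B (a • be n F (neg (Sum.inl (c1 hn)))) (be n F (Sum.inl (c0 hn))) = 0 := fun a => by
    rw [sympForm_smul_left, fs, H.pw2, mul_zero]
  apply Nat.card_le_card_of_injective (fun x : F ×
    ↥(UL (Sum.inl (c0 hn)) ⊓ QS (Sum.inl (c0 hn)) (Sum.inl (c1 hn)) : Subgroup (Sy n F)) =>
    (⟨ul (be n F (Sum.inl (c0 hn))) (x.1 • be n F (neg (Sum.inl (c1 hn)))) 0 * x.2.1,
      mul_mem (mem_UL_iff.2 (isUL_ul (h0 _) _)) x.2.2.1⟩ : (UL (Sum.inl (c0 hn)) : Subgroup (Sy n F))))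
  rintro ⟨a, j⟩ ⟨a', j'⟩ h
  have h2 : ul (be n F (Sum.inl (c0 hn))) (a • be n F (neg (Sum.inl (c1 hn)))) 0 * j.1 =
      ul (be n F (Sum.inl (c0 hn))) (a' • be n F (neg (Sum.inl (c1 hn)))) 0 * j'.1 := congrArg Subtype.val h
  have h3 : ∀ (a : F) (j : ↥(UL (Sum.inl (c0 hn)) ⊓ QS (Sum.inl (c0 hn)) (Sum.inl (c1 hn)) : Subgroup (Sy n F))),
      rho n F (ul (be n F (Sum.inl (c0 hn))) (a • be n F (neg (Sum.inl (c1 hn)))) 0 * j.1) (be n F (Sum.inl (c1 hn))) =
        be n F (Sum.inl (c1 hn)) + a • be n F (Sum.inl (c0 hn)) := by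
    intro a j
    rw [rmul, (mem_J_iff.1 j.2).2, rho_ul (h0 a), sympForm_smul_right, H.qw2, fs (be n F (Sum.inl (c1 hn))), H.pq,
      zero_smul, mul_zero, add_zero, add_zero, mul_one]
  have h4 := h3 a j
  rw [h2, h3 a' j'] at h4
  have h5 := add_left_cancel h4
  have h6 : a' = a := by
    have := congrArg (fun y => B y (be n F (neg (Sum.inl (c0 hn))))) h5
    simpa only [sympForm_smul_left, H.pw1, mul_one] using this
  subst h6
  exact Prod.ext rfl (Subtype.ext (mul_left_cancel h2))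

/-- **All fields of `Offer` for `Sp_2n(q)`.** -/
theorem offer : Offer (Up n F) (QSL (Sum.inl (c0 hn)) (Sum.inl (c1 hn))) (UL (Sum.inl (c0 hn)))
    (UL (Sum.inl (c0 hn)) ⊓ QS (Sum.inl (c0 hn)) (Sum.inl (c1 hn))) (X12 hn)
    (US (Sum.inl (c0 hn)) (Sum.inl (c1 hn)) : Subgroup (Sy n F)) := by
  have hd : Dj (Sum.inl (c0 hn) : Ix n) (Sum.inl (c1 hn)) := dj_ll (c01 hn)
  have H := hyp (F := F) hd
  refine ⟨UL_el hd, (UL_le_QSL hd).trans (QSL_le_Up hn), QSL_le_Up hn, ?_, inf_le_left, ?_, ?_, card_J hn, ?_, ?_, ?_⟩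
  · -- `Q_s U_l` normalises `U_l`
    intro A hA
    have hA' := mem_QSL_iff.1 hA
    rw [Subgroup.mem_normalizer_iff]
    have key : ∀ A ∈ QSL (Sum.inl (c0 hn)) (Sum.inl (c1 hn)), ∀ u ∈ (UL (Sum.inl (c0 hn)) : Subgroup (Sy n F)),
        A * u * A⁻¹ ∈ UL (Sum.inl (c0 hn)) := by
      intro A hA u hu
      have hA' := mem_QSL_iff.1 hA
      have hu' := mem_UL_iff.1 hu
      have hb := bb_perp (w1 := be n F (neg (Sum.inl (c0 hn)))) hu'.1
      have h1 : B (rho n F A (bb (be n F (neg (Sum.inl (c0 hn)))) u)) (be n F (Sum.inl (c0 hn))) = 0 := by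
        rw [IsQ.form_p hA'.1, hb]
      rw [hu'.eq H, conj_ul hb _ hA'.1]
      exact mem_UL_iff.2 (isUL_ul h1 _)
    intro u
    refine ⟨key A hA u, fun h => ?_⟩
    have h2 := key A⁻¹ (inv_mem hA) _ h
    have e : A⁻¹ * (A * u * A⁻¹) * A⁻¹⁻¹ = u := by group
    rwa [e] at h2
  · -- comm
    intro j hj v hv
    rw [mem_J_iff] at hj
    rw [mem_X12_iff]
    exact IsQ.comm_mem H hj.1 hj.2 (mem_QSL_iff.1 hv)
  · -- fix
    intro v hv hvn u hu huv
    have hv' := mem_QSL_iff.1 hv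
    have hu' := mem_UL_iff.1 hu
    have hb := bb_perp (w1 := be n F (neg (Sum.inl (c0 hn)))) hu'.1
    have hnot : ¬ IsUL (be n F (Sum.inl (c0 hn))) v := fun h => hvn (UL_le_cen hd (mem_UL_iff.2 h))
    rw [mem_J_iff]
    refine ⟨hu', ?_⟩
    have hbq : B (bb (be n F (neg (Sum.inl (c0 hn)))) u) (be n F (Sum.inl (c1 hn))) = 0 := by
      by_contra hne
      refine hnot (hv'.isUL_of_fix hb hne ?_)
      rw [hu'.eq H] at huv
      exact (comm_ul_iff H hv'.1 hb _).1 huv.symm
    rw [hu'.eq H, rho_ul hb, fs (be n F (Sum.inl (c1 hn))) (be n F (Sum.inl (c0 hn))), H.pq,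
      fs (be n F (Sum.inl (c1 hn))), hbq, zero_smul, mul_zero, add_zero, add_zero, zero_smul, add_zero]
  · -- off
    exact fun V hV => off hd V hV
  · -- triv
    rintro s hs v ⟨hv, hvJ⟩
    apply UL_le_cen hd
    rw [mem_UL_iff]
    exact IsQ.triv H (mem_QSL_iff.1 hv) (fun b h1 h2 => of_cJ hd hv hvJ b h1 h2) (up_flag hn hs).1 (up_flag hn hs).2
  · -- fin
    intro V hV hVel hVn hS x hx
    obtain ⟨hxQ, hxJ⟩ := hV hx
    have hxQ' := mem_QSL_iff.1 hxQ
    rw [mem_US]
    intro v hv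
    have hv1 := (prp_iff.1 hv).1
    have hv2 := (prp_iff.1 hv).2
    have hsx : ∀ s, IsQ (be n F (Sum.inl (c0 hn))) (be n F (Sum.inl (c1 hn))) s →
        ∃ u, IsUL (be n F (Sum.inl (c0 hn))) u ∧ u⁻¹ * s * x = x * (u⁻¹ * s) := by
      intro s hs
      obtain ⟨u, hu, hus⟩ := hS s (QSL_le_Up hn (mem_QSL_iff.2 hs))
      exact ⟨u, mem_UL_iff.1 hu, (Subgroup.mem_centralizer_iff.1 hus x hx).symm⟩
    by_cases hxU : IsUL (be n F (Sum.inl (c0 hn))) x
    · -- `x ∈ U_l` is centralised by `Q_s`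
      have hb := bb_perp (w1 := be n F (neg (Sum.inl (c0 hn)))) hxU.1
      have hE := IsQ.inE_of_fix H (b := bb (be n F (neg (Sum.inl (c0 hn)))) x) fun s hs => by
        obtain ⟨u, hu, hus⟩ := hsx s hs
        have h1 : s * x = x * s := by
          have h2 : u * x = x * u := hu.comm H hxU
          calc s * x = u * (u⁻¹ * s * x) := by group
            _ = u * (x * (u⁻¹ * s)) := by rw [hus]
            _ = (u * x) * (u⁻¹ * s) := by group
            _ = x * s := by rw [h2]; group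
        rw [hxU.eq H] at h1
        exact (comm_ul_iff H hs.1 hb _).1 h1
      rw [hxU.eq H, rho_ul hb, hv1, fs v, hE.2 v hv1 hv2, mul_zero, add_zero, zero_smul, zero_smul, add_zero,
        add_zero]
    · have hxx : x * x = 1 := by
        have := hVel.2 x hx
        rwa [pow_two] at this
      exact IsQ.fin_core H hxQ' (fun b h1 h2 => of_cJ hd hxQ hxJ b h1 h2) hxx hxU hsx hv1 hv2

end final

end Cfsg.Agent.Omega.All.SpN.Off
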